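import Cfsg.Agent.FLAV.A
import Cfsg.Agent.H79.Dade
import Cfsg.Agent.H79.Gross

/-! Images under partial homomorphisms, the lower nilpotent series, the choice of a section. -/

set_option autoImplicit false
set_option linter.unusedSectionVars false

namespace Cfsg.Agent.TUR

open Subgroup H49 H44 FLAV
open scoped commutatorElement

universe u v

section Im
variable {X : Type*} {Y : Type*} [Group X] [Group Y] {H A B : Subgroup X} (f : H →* Y)

theorem mem_im {y : Y} : y ∈ morphim f A ↔ ∃ x : H, (x : X) ∈ A ∧ f x = y := Iff.rfl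

theorem im_mem {x : H} (hA : (x : X) ∈ A) : f x ∈ morphim f A := ⟨x, hA, rfl⟩

theorem im_mono (h : A ≤ B) : morphim f A ≤ morphim f B := map_mono (comap_mono h)

theorem im_comm (hA : A ≤ H) (hB : B ≤ H) : morphim f ⁅A, B⁆ = ⁅morphim f A, morphim f B⁆ := by
  rw [morphim, subgroupOf_commutator hA hB, map_commutator]; rfl

theorem im_zpowers (x : H) : morphim f (zpowers (x : X)) = zpowers (f x) := by
  rw [← MonoidHom.map_zpowers, morphim]
  congr 1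
  rw [show (x : X) = H.subtype x from rfl, ← MonoidHom.map_zpowers]
  exact comap_map_eq_self_of_injective H.subtype_injective _

theorem im_kk (hA : A ≤ H) (s : H) : morphim f (kk (s : X) A) = kk (f s) (morphim f A) := by
  rw [kk, im_comm f hA (zpowers_le.2 s.2), im_zpowers]

theorem im_norm1 {s : H} (h : (s : X) ∈ 𝒩(A)) : f s ∈ 𝒩(morphim f A) :=
  H79.mem_norm_map f (H79.mem_norm_subgroupOf h)

theorem im_norm (h : B ≤ 𝒩(A)) : morphim f B ≤ 𝒩(morphim f A) := by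
  rintro _ ⟨x, hx, rfl⟩
  exact im_norm1 f (h hx)

theorem im_cent1 {x s : H} (h : (x : X) ∈ 𝒞[(s : X)]) : f x ∈ 𝒞[f s] :=
  map_mem_cent1 f (mem_cent1.2 (Subtype.ext (mem_cent1.1 h)))

theorem im_pi {π : Set ℕ} (h : IsPi π A) : IsPi π (morphim f A) := (h.subgroupOf H).map f

theorem im_card_dvd (hA : A ≤ H) : Nat.card (morphim f A) ∣ Nat.card A :=
  card_subgroupOf_of_le hA ▸ card_map_dvd _ f

theorem im_solv (h : Group.IsSolvable A) : Group.IsSolvable (morphim f A) :=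
  solvable_map (solvable_subgroupOf h H) f

variable [Finite X]

theorem im_lns (hA : A ≤ H) (n : ℕ) : morphim f (lns n A) = lns n (morphim f A) := by
  rw [morphim, morphim, ← map_lns]
  congr 1
  apply map_injective H.subtype_injective
  rw [map_lns, map_subgroupOf_eq_of_le hA, map_subgroupOf_eq_of_le ((lns_le n A).trans hA)]

theorem im_inf_cent (hA : A ≤ H) {s : H} (hs : (s : X) ∈ 𝒩(A)) {r : ℕ} (h : Cop r A (s : X)) :
    morphim f (A ⊓ 𝒞[(s : X)]) = morphim f A ⊓ 𝒞[f s] := by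
  rw [morphim, morphim, H79.map_inf_cent1 f (H79.mem_norm_subgroupOf hs) (by
    rw [card_subgroupOf_of_le hA, ← orderOf_coe, ← Nat.card_zpowers]; exact h.copr le_rfl)]
  congr 1
  ext x
  simp only [mem_subgroupOf, mem_inf, mem_cent1, Subtype.ext_iff, coe_mul]

theorem im_cop [Finite Y] (hA : A ≤ H) {s : H} {r : ℕ} (h : Cop r A (s : X)) :
    Cop r (morphim f A) (f s) :=
  ⟨h.pr, by rw [← map_pow, show s ^ r = 1 from Subtype.ext h.pow, map_one],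
    fun e => h.cop (e.trans (im_card_dvd f hA))⟩

theorem im_lift {π : Set ℕ} {y : Y} (hy : y ∈ morphim f A) (h : IsPiElt π y) :
    ∃ x : H, (x : X) ∈ A ∧ f x = y ∧ IsPiElt π (x : X) := by
  obtain ⟨x, h1, h2, h3⟩ := H79.exists_pi_lift f hy h
  exact ⟨x, h1, h2, by rwa [IsPiElt, orderOf_coe]⟩

theorem piElt_map {π : Set ℕ} {x : H} (h : IsPiElt π (x : X)) : IsPiElt π (f x) :=
  IsPiNat.of_dvd h (orderOf_coe x ▸ orderOf_map_dvd f x)

end Im

variable {X : Type u} [Group X] [Finite X] {p q r : ℕ} {π : Set ℕ}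
  {A E G H J K L M P : Subgroup X} {σ : X}

theorem le_nilRes (h : J ≤ ⁅J, L⁆) (hL : J ≤ L) : J ≤ nilRes L :=
  le_iInf fun k => by
    induction k with
    | zero => exact hL
    | succ k ih => exact h.trans (commutator_mono ih le_rfl)

theorem quo_lns (h : A ≤ 𝒩(K)) (n : ℕ) : quo (lns n A) K = lns n (quo A K) := im_lns _ h n

theorem nilRes_le_of_quo (h : A ≤ 𝒩(K)) (hn : Group.IsNilpotent (quo A K)) : nilRes A ≤ K :=
  (quo_eq_bot_iff ((nilRes_le A).trans h)).1 ((quo_lns h 1).trans (nilRes_eq_bot_iff.2 hn))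

theorem norm_lns (h : A ≤ 𝒩(H)) (n : ℕ) : A ≤ 𝒩(lns n H) :=
  h.trans (normalizer_le_normalizer_lns n H)

theorem nil_quo_nilRes (A : Subgroup X) : Group.IsNilpotent (quo A (nilRes A)) :=
  nilRes_eq_bot_iff.1 ((quo_lns (norm_lns le_normalizer 1) 1).symm.trans (quo_self _))

theorem lns_le_sup (hG : G ≤ 𝒩(K)) (hH : H ≤ G) (h : G ≤ H ⊔ K) (n : ℕ) :
    lns n G ≤ lns n H ⊔ K := by
  have h1 := hH.trans hG
  rw [← quo_le_quo_iff' ((lns_le n G).trans hG) ((lns_le n H).trans h1), quo_lns hG, quo_lns h1]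
  exact lns_mono n ((quo_le_quo_iff' hG h1).2 h)

theorem exists_lns_bot (hG : Group.IsSolvable G) : ∃ n, lns n G = ⊥ := by
  have : ∀ n, lns n G = ⊥ ∨ Nat.card (lns n G) + n ≤ Nat.card G := fun n => by
    induction n with
    | zero => exact .inr le_rfl
    | succ n ih =>
      by_cases h : lns n G = ⊥
      · exact .inl (le_bot_iff.1 (h ▸ lns_succ_le n G))
      have : Nat.card (lns (n + 1) G) < Nat.card (lns n G) := card_lt_of_lt
        ((nilRes_le_lcs (lns n G) 1).trans_lt (der_lt_of_solvable (solvable_of_le hG (lns_le n G)) h))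
      have := ih.resolve_left h
      exact .inr (by omega)
  have h2 := card_pos' (lns (Nat.card G) G)
  exact ⟨_, (this (Nat.card G)).resolve_right (by omega)⟩

/-- The residual lies in every subgroup containing the `p'`-elements. -/
theorem nilRes_le_of_elts (h : ∀ x ∈ M, IsPiElt {p}ᶜ x → x ∈ L) : nilRes M ≤ L := by
  let O := closure {x | x ∈ M ∧ IsPiElt {p}ᶜ x}
  have hn : M ≤ 𝒩(O) := fun g hg => mem_norm_of_cj_le (by
    rw [cj_def, MonoidHom.map_closure, closure_le]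
    rintro _ ⟨x, hx, rfl⟩
    exact subset_closure ⟨mul_mem (mul_mem hg hx.1) (inv_mem hg), isPiElt_conj.2 hx.2⟩)
  refine (nilRes_le_of_quo hn (IsPi.nilpotent (p := p) (isPi_of_elt ?_))).trans
    ((closure_le _).2 fun x hx => h x hx.1 hx.2)
  rintro _ ⟨x, hx, rfl⟩
  obtain ⟨y, hy, z, hz, e, h1, h2⟩ := exists_pi_decomp {p} x
  have hz' : (z : X) ∈ M := zpowers_le.2 (show x ∈ M.subgroupOf _ from hx) hz
  have hO : (z : X) ∈ O := Subgroup.subset_closure ⟨hz', by rwa [IsPiElt, orderOf_coe]⟩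
  rw [e, map_mul, coset_eq_one_iff.2 hO, mul_one]
  exact IsPiNat.of_dvd h1 (orderOf_map_dvd _ _)

theorem hall_le_of_sup (h : IsPiHallOf π H M) (hK : K ≤ M) (hn : K ≤ 𝒩(H)) (hA : IsPi πᶜ A)
    (hKA : K ≤ 𝒩(A)) (hM : M ≤ K ⊔ A) : H ≤ K := by
  have h1 : IsPiNat πᶜ (K.relIndex M) := by
    refine (hA.relIndex K).of_dvd ((relIndex_dvd_relIndex_of_le_right hK hM).trans ?_)
    rw [sup_comm, relIndex_sup_of_norm (.inr hKA)]
  have h2 := (h.inf_of_norm hK hn).of_index hK h1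
  exact inf_eq_left.1 (h2.eq_of_le inf_le_left h.le h.pi)

theorem norm_sup_nilRes (h : IsPiHallOf π H M) (hA : A ≤ 𝒩(M)) : A ≤ 𝒩(H ⊔ nilRes M) := by
  have h1 : A ≤ 𝒩(nilRes M) := norm_lns hA 1
  have h2 : M ≤ 𝒩(nilRes M) := norm_lns le_normalizer 1
  exact norm_sup_of_quo_norm h1 (h.le.trans h2)
    ((quo_norm _ hA).trans (nilpotent_hall_norm (nil_quo_nilRes M) (h.quo h2)))

/-- A `q`-subgroup `Q` with a `q'`-subgroup acting on it, deep in the lower nilpotent series. -/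
theorem exists_pair (hG : Group.IsSolvable G) (hc : Cop r G σ) (hi : σ ∈ 𝒩(G)) {j : ℕ}
    (h1 : ¬ IsPi {p} (lns (j + 1) G)) (h2 : IsPi {p} (lns (j + 2) G)) :
    ∃ (q : ℕ) (Q N E : Subgroup X), q.Prime ∧ q ≠ p ∧ IsPi {q} Q ∧ Q ≤ G ∧ N ≤ G ∧ σ ∈ 𝒩(Q) ∧
      σ ∈ 𝒩(N) ∧ σ ∈ 𝒩(E) ∧ N ≤ 𝒩(Q) ∧ N ≤ 𝒩(E) ∧ E ≤ lns j N ∧ IsPi {q}ᶜ E ∧ ¬ Q ≤ 𝒞(E) := by
  obtain ⟨q, hq, hd, hqp⟩ : ∃ q : ℕ, q.Prime ∧ q ∣ Nat.card (lns (j + 1) G) ∧ q ≠ p := by
    by_contra h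
    push Not at h
    exact h1 h
  have iL : ∀ {H : Subgroup X} (n : ℕ), σ ∈ 𝒩(H) → σ ∈ 𝒩(lns n H) := fun n h =>
    normalizer_le_normalizer_lns n _ h
  obtain ⟨Q, hQ, iQ⟩ := hc.syl_ex hq (lns_le (j + 1) G) (iL _ hi)
  have hL' : IsPi {q}ᶜ (lns (j + 2) G) := h2.compl_singleton_of_ne hqp.symm
  have nL : ∀ n, G ≤ 𝒩(lns n G) := norm_lns le_normalizer
  have hQG : Q ≤ G := hQ.le.trans (lns_le _ G)
  set N₀ := G ⊓ 𝒩(Q)
  have f1 : G ≤ N₀ ⊔ lns (j + 2) G := by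
    have hle : Q ⊔ lns (j + 2) G ≤ lns (j + 1) G := sup_le hQ.le (lns_succ_le _ G)
    have := (frattini_arg (hle.trans (lns_le _ G)) (norm_sup_nilRes hQ (nL _))
      (hQ.sub le_sup_left hle)).sup_eq
    refine this.ge.trans (sup_le (sup_le (le_sup_of_le_left (le_inf hQG le_normalizer))
      le_sup_right) le_sup_left)
  have iN : σ ∈ 𝒩(N₀) := inv_inf hi (inv_norm iQ)
  have sN : ∀ n, Group.IsSolvable (lns n N₀) := fun n =>
    solvable_of_le hG ((lns_le n _).trans inf_le_left)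
  have lN : ∀ n, lns n N₀ ≤ N₀ := fun n => lns_le n _
  obtain ⟨E, hE, iE⟩ := coprime_hall_exists (zn (iL j iN))
    (hc.copr ((lN j).trans inf_le_left)) (solv_zp σ) (sN j) {q}ᶜ
  have hL₀ : lns (j + 1) N₀ ≤ lns (j + 1) G := lns_mono _ inf_le_left
  have hQL : Q ≤ lns (j + 1) N₀ := hall_le_of_sup hQ hL₀ ((lN _).trans inf_le_right) hL'
    (hL₀.trans ((lns_le _ G).trans (nL _))) (lns_le_sup (nL _) inf_le_left f1 _)
  have nN : ∀ n, N₀ ≤ 𝒩(lns n N₀) := norm_lns le_normalizer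
  have hLE : lns (j + 1) N₀ ≤ E ⊔ Q :=
    ((hQ.sub hQL hL₀).isProd (hE.inf_normal (lns_succ_le j _) ((lN j).trans (nN _)))).sup_eq.ge.trans
      (sup_le le_sup_right (le_sup_of_le_left inf_le_left))
  have hH : E ⊔ lns (j + 1) N₀ ≤ lns j N₀ := sup_le hE.le (lns_succ_le j _)
  have f2 := (hall_frattini (solvable_of_le (sN j) hH) (hH.trans (lN j))
    (norm_sup_nilRes hE (nN j)) (hE.sub le_sup_left hH)).sup_eq
  set N₁ := N₀ ⊓ 𝒩(E)
  have hEN : E ≤ N₁ := le_inf (hE.le.trans (lN j)) le_normalizer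
  have f3 : N₀ ≤ N₁ ⊔ Q := f2.ge.trans (sup_le (sup_le (le_sup_of_le_left hEN)
    (hLE.trans (sup_le_sup_right hEN _))) le_sup_left)
  have hN₁ : N₁ ≤ 𝒩(Q) := inf_le_left.trans inf_le_right
  refine ⟨q, Q, N₁, E, hq, hqp, hQ.pi, hQG, inf_le_left.trans inf_le_left, iQ,
    inv_inf iN (inv_norm (inv_of_zn iE)), inv_of_zn iE, hN₁, inf_le_right,
    hall_le_of_sup hE (lns_mono j inf_le_left) ((lns_le j _).trans inf_le_right)
      hQ.pi.compl_compl ((lns_le j _).trans hN₁) (lns_le_sup inf_le_right inf_le_left f3 j),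
    hE.pi, fun h => hQ.ne_bot hq rfl hd ?_⟩
  have h3 : lns j N₀ ≤ 𝒩(E) := (lN j).trans (f3.trans (sup_le inf_le_right (norm_of_cent h)))
  have h4 : IsPi {q} (quo (lns j N₀) E) := (isPi_quo_iff h3).2 (by simpa using hE.index)
  exact hQ.pi.eq_bot (hE.pi.of_le (hQL.trans (nilRes_le_of_quo h3 h4.nilpotent)))

/-- The data attached to one step of the tower. -/
structure Sel (q j : ℕ) (G : Subgroup X) (σ : X) (P N E : Subgroup X) : Prop where
  pr : q.Prime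
  pi : IsPi {q} P
  le : P ≤ G
  lt : N < G
  iP : σ ∈ 𝒩(P)
  iN : σ ∈ 𝒩(N)
  iE : σ ∈ 𝒩(E)
  nP : N ≤ 𝒩(P)
  EN : E ≤ lns j N
  piE : IsPi {q}ᶜ E
  ne : P ≠ ⊥
  comm : ⁅P, E⁆ = P
  der : ⁅P, P⁆ ≤ 𝒞(P)
  pow : ∀ y ∈ P, y ^ q ∈ 𝒞(P)
  ab : P ≤ 𝒞(P) → ∀ y ∈ P, y ^ q = 1
  nab : ¬ P ≤ 𝒞(P) → P ⊓ 𝒞(P) ≤ 𝒞(E)

theorem exists_sel (hG : Group.IsSolvable G) (hc : Cop r G σ) (hi : σ ∈ 𝒩(G)) {j : ℕ}
    (h1 : ¬ IsPi {p} (lns (j + 1) G)) : ∃ q P N E, q ≠ p ∧ Sel q j G σ P N E := by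
  classical
  obtain ⟨n, hn⟩ := exists_lns_bot hG
  have hex : ∃ k, IsPi {p} (lns (j + k + 1) G) := ⟨n, (isPi_bot _).of_le
    (hn ▸ lns_antitone G (by omega))⟩
  obtain ⟨k, hk⟩ : ∃ k, Nat.find hex = k + 1 := Nat.exists_eq_succ_of_ne_zero fun h =>
    h1 (by simpa [h] using Nat.find_spec hex)
  obtain ⟨q, Q, N, E, hq, hqp, hQ, hQG, hNG, iQ, iN, iE, nQ, nE, hEN, hE, hne⟩ :=
    exists_pair hG hc hi (j := j + k) (Nat.find_min hex (by omega)) (hk ▸ Nat.find_spec hex :)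
  haveI := Fact.mk hq
  obtain ⟨P, ⟨hPQ, nP, iP, hP⟩, hmin⟩ := (Set.toFinite {R : Subgroup X | R ≤ Q ∧ N ≤ 𝒩(R) ∧
    σ ∈ 𝒩(R) ∧ ¬ R ≤ 𝒞(E)}).exists_minimal ⟨Q, le_rfl, nQ, iQ, hne⟩
  have hEN' : E ≤ N := hEN.trans (lns_le _ N)
  have hEP : E ≤ 𝒩(P) := hEN'.trans nP
  have hPq := hQ.of_le hPQ
  have hs : Group.IsSolvable E ∨ Group.IsSolvable P := .inr (solvable_of_le hG (hPQ.trans hQG))
  have key : ∀ R < P, N ≤ 𝒩(R) → σ ∈ 𝒩(R) → R ≤ 𝒞(E) := fun R h h2 h3 => by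
    by_contra h4
    exact h.not_ge (hmin ⟨h.le.trans hPQ, h2, h3, h4⟩ h.le)
  have hcm : ⁅P, E⁆ = P := by
    by_contra h
    exact hP (cent_symm (coprime_cent_of_stable hEP (hE.coprime' hPq) hs (key _ (lt_of_le_of_ne
      (commutator_le_left_of_norm hEP) h) (norm_commutator nP nE) (inv_comm iP iE))))
  have hne' : P ≠ ⊥ := fun h => hP (h ▸ bot_le)
  have hΦ : frattiniOf P ≤ 𝒞(E) := key _ (H79.frattiniOf_lt hne')
    (nP.trans (H50.norm_le_norm_frattiniOf P)) (H50.norm_le_norm_frattiniOf P iP)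
  have hΦ' : frattiniOf P ≤ 𝒞(P) := cent_symm (hcm.ge.trans (H50.commutator_cent_of_cent
    (cent_symm hΦ) (le_normalizer.trans (H50.norm_le_norm_frattiniOf P))))
  have hp := hPq.isPGroup hq
  refine ⟨q, P, N, E, hqp, hq, hPq, hPQ.trans hQG, lt_of_le_of_ne hNG fun h => hne
    (hQ.cent_of_norm hE (hQG.trans (h ▸ nE)) (hEN'.trans nQ)), iP, iN, iE, nP,
    hEN.trans (lns_antitone N (by omega)), hE, hne', hcm, (H50.der_le_frattiniOf hp).trans hΦ',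
    fun y hy => hΦ' (H50.pow_mem_frattiniOf hp hy), fun h y hy => ?_, fun h => key _
      (lt_of_le_of_ne inf_le_left fun e => h (e.ge.trans inf_le_right))
      (norm_inf nP (norm_cent nP)) (inv_inf iP (inv_cent iP))⟩
  have := (coprime_abelian_dp (abelian_iff.2 h) hEP (hE.coprime' hPq)).2.1
  rw [hcm] at this
  exact mem_bot.1 (this ▸ mem_inf.2 ⟨mem_inf.2 ⟨pow_mem hy q, hΦ (H50.pow_mem_frattiniOf hp hy)⟩,
    pow_mem hy q⟩)

end Cfsg.Agent.TUR
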