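import Cfsg.Agent.TUR.H3

/-! A `q`-group whose derived group acts by scalars. -/

set_option autoImplicit false
set_option linter.unusedSectionVars false

namespace Cfsg.Agent.TUR

open Subgroup H49 H44 FLAV Module
open scoped commutatorElement

universe u v

variable {K : Type*} [Field K] {X : Type u} [Group X] [Finite X] {U : Type v} [AddCommGroup U]
  [Module K U] {φ : X →* End K U} {Ω : Set (Dual K U)} {σ g x y : X} {p q r : ℕ}
  {A E G M P : Subgroup X} {u : U}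

theorem cent_le_der (hA : A ≤ 𝒩(P)) (hc : (Nat.card A).Coprime (Nat.card P)) (h : ⁅P, A⁆ = P) :
    P ⊓ 𝒞(A) ≤ ⁅P, P⁆ := by
  have h3 := coprime_abelian_dp ((quo_abelian_iff norm_der).2 le_rfl) (quo_norm ⁅P, P⁆ hA)
    ((hc.of_dvd_left (card_quo_dvd _ _)).of_dvd_right (card_quo_dvd _ _))
  rw [← quo_eq_bot_iff (inf_le_left.trans norm_der), eq_bot_iff, ← h3.2.1,
    ← quo_commutator norm_der (norm_commutator hA hA), h]
  exact le_inf (quo_inf_cent_le _ _ _) (quo_mono _ inf_le_left)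

theorem eq_one_of_fx (hg : g ∈ fx φ Ω σ) (hu : φ σ u = u) (hb : u ∉ bad φ Ω σ) {c : K}
    (h : φ g u = c • u) : c = 1 := by
  by_contra e
  have := Submodule.smul_mem _ (c - 1)⁻¹ (hg.2 u hu)
  rw [h, show c • u - u = (c - 1) • u by rw [sub_smul, one_smul], smul_smul,
    inv_mul_cancel₀ (sub_ne_zero.2 e), one_smul] at this
  exact hb this

theorem PT.odd_mem (h : PT p σ G) (hx : x ∈ kk σ G) (h2 : IsPiElt {2}ᶜ x) : x ∈ piCoreOf {p} G := by
  obtain ⟨n, hn⟩ := h x hx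
  obtain ⟨t, ht⟩ := exists_pow_eq_self_of_coprime (x := x) (n := 2 ^ n) (Nat.Coprime.pow_left n
    ((Nat.Prime.coprime_iff_not_dvd Nat.prime_two).2 fun e => h2 2 Nat.prime_two e rfl))
  exact ht ▸ pow_mem hn t

/-- A `q`-group whose derived group acts by scalars. -/
structure SP (φ : X →* End K U) (q r : ℕ) (P : Subgroup X) (σ : X) : Prop where
  inj : Function.Injective φ
  pq : q.Prime
  qK : (q : K) ≠ 0
  pi : IsPi {q} P
  cop : Cop r P σ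
  rK : (r : K) ≠ 0
  inv : σ ∈ 𝒩(P)
  der : ⁅P, P⁆ ≤ scal φ

variable [IsAlgClosed K] [FiniteDimensional K U] [Nontrivial U]

namespace SP
variable (h : SP φ q r P σ)
include h

theorem sc : SC φ q r (kk σ P) σ := by
  have hle := kk_le h.inv
  have hd := (commutator_mono hle hle).trans h.der
  refine ⟨h.inj, h.pq, h.qK, h.pi.of_le hle, h.cop.mono hle, h.rK, inv_kk σ P, hd, ?_⟩
  rw [← cent_zpowers]
  exact (cent_le_der (zn (inv_kk σ P)) (h.cop.copr hle) (h.cop.kk_kk le_rfl h.inv)).trans hd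

theorem perp' : kk σ P ≤ 𝒞(P ⊓ 𝒞[σ]) := perp (h.der.trans (scal_le_center h.inj)) σ

theorem cent_of (h1 : y ∈ 𝒞(kk σ P)) (h2 : y ∈ 𝒞(P ⊓ 𝒞[σ])) : y ∈ 𝒞(P) := by
  rw [← (h.cop.prod le_rfl h.inv).sup_eq, cent_sup]
  exact ⟨h1, h2⟩

theorem nz [Fact p.Prime] [CharP K p] (hΩ : Om φ Ω) (hG : Cop r G σ) (iG : σ ∈ 𝒩(G)) (hP : P ≤ G)
    (hE : E ≤ G) (nP : G ≤ 𝒩(P)) (iE : σ ∈ 𝒩(E)) (hq : IsPi {q}ᶜ E) (hc : ⁅P, E⁆ = P)
    (hb : ∀ u, φ σ u = u → u ∈ bad φ Ω σ) : kk σ P ≤ 𝒞(P) := by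
  by_cases h0 : ∃ u ≠ 0, φ σ u = u
  · obtain ⟨u, h0, hu⟩ := h0
    exact fun y hy => h.cent_of (h.sc.ab_of_bad hΩ hb hu h0 hy) (h.perp' hy)
  replace h0 : ∀ u, φ σ u = u → u = 0 := fun u hu => by_contra fun e => h0 ⟨u, e, hu⟩
  have hPT : PT p σ G := FLAV.core φ h.inj hG.pr hG.pow iG hG.cop h0
  have hqp : q ≠ p := fun e => h.qK (e.symm ▸ CharP.cast_eq_zero K p)
  have hO : ∀ y ∈ P, y ∈ piCoreOf {p} G → y = 1 := fun y h1 h2 =>
    ((piCoreOf_pi _ G).elt h2).eq_one ((h.pi.compl_singleton_of_ne hqp).elt h1)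
  by_cases h2 : q = 2
  swap
  · exact fun y hy => hO y (kk_le h.inv hy) (PT.odd_mem hPT (kk_mono hP hy)
      ((h.pi.compl_singleton_of_ne h2).elt (kk_le h.inv hy))) ▸ one_mem _
  have h3 : kk σ E ≤ 𝒞(P) := fun e he k hk => commutatorElement_eq_one_iff_mul_comm.1 (by
    have := PT.odd_mem hPT (kk_mono hE he) (h2 ▸ hq.elt (kk_le iE he))
    exact hO _ (cm_mem (nP (hE (kk_le iE he))) hk)
      (mul_mem (conj_mem_of_norm (le_norm_piCoreOf _ G) (hP hk) this) (inv_mem this)))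
  have h4 : ⁅kk σ P, E⁆ ≤ 𝒞(P) := commutator_le.2 fun d hd e he => by
    obtain ⟨a, ha, b, hb, rfl⟩ := hG.dec hE iE he
    have nb := nP (hE hb.1)
    have := h.cent_of (h.sc.cent_of_nofix' h0 (mem_norm_kk hb.2 nb) hb.2 (hq.elt hb.1)
      (fun e => hG.cop (e.trans (orderOf_dvd_natCard G (hE hb.1)))) d hd)
      (h.perp' (cm_mem (mem_norm_kk hb.2 nb) hd))
    have h5 : ⁅d, a * b⁆ = ⁅d, a⁆ * (a * ⁅d, b⁆ * a⁻¹) := by group
    rw [h5, commutatorElement_eq_one_iff_mul_comm.2 (h3 ha d (kk_le h.inv hd)), one_mul]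
    exact mul_mem (mul_mem (h3 ha) this) (inv_mem (h3 ha))
  refine cent_symm (commutator_eq_bot_iff.1 ?_)
  have := H50.three_sub (A := P) (B := kk σ P) (C := E) (commutator_eq_bot_iff.2
    (((commutator_mono le_rfl (kk_le h.inv)).trans (h.der.trans (scal_le_center h.inj))).trans
      (center_le_cent _))) (commutator_eq_bot_iff.2 h4)
  rwa [commutator_comm E, hc] at this

theorem step (hΩ : Om φ Ω) (hu : φ σ u = u) (hb : u ∉ bad φ Ω σ) (hy : y ∈ P)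
    (hf : y ∈ fx φ Ω σ) : y ∈ 𝒞(P) := by
  refine h.cent_of (cent_symm h.perp' ⟨hy, hf.1⟩) fun c hc =>
    commutatorElement_eq_one_iff_mul_comm.1 ?_
  obtain ⟨a, ha⟩ := h.der (commutator_mem_commutator hc.1 hy)
  have := eq_one_of_fx (mul_mem (conj_mem_of_norm hΩ.norm_fx hc.2 hf) (inv_mem hf)) hu hb
    (c := a) (LinearMap.congr_fun ha u)
  exact h.inj (by rw [ha, this, one_smul, map_one])

theorem base (hΩ : Om φ Ω) (hM : M ≤ 𝒩(P)) (hc : M ≤ 𝒞[σ]) (hs : Group.IsSolvable M)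
    (hr : ¬ r ∣ Nat.card M) (hf : nilRes M ≤ fx φ Ω σ) (hx : x ∈ nilRes M) (hq : IsPiElt {q}ᶜ x) :
    ∀ d ∈ kk σ P, ⁅d, x⁆ ∈ 𝒞(P) := fun d hd => by
  have hM' : M ≤ 𝒩(kk σ P) := fun g hg => mem_norm_kk (hc hg) (hM hg)
  have hx' := nilRes_le M hx
  refine h.cent_of ?_ (h.perp' (cm_mem (hM' hx') hd))
  by_cases h0 : bad φ Ω σ = ⊥
  · exact h.sc.nil_cent' hM' hc hs hr (fun g hg u hu => sub_eq_zero.1
      ((Submodule.mem_bot K).1 (h0 ▸ (hf hg).2 u hu))) hx hq d hd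
  obtain ⟨u, hu, h0⟩ := (Submodule.ne_bot_iff _).1 h0
  exact h.sc.full hΩ hu h0 (hf hx) (hM' hx') hq
    (fun e => hr (e.trans (orderOf_dvd_natCard M hx'))) d hd

end SP

end Cfsg.Agent.TUR
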