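import Cfsg.Agent.TUR.O1

/-! The module attached to a family of subgroups of a `q`-group. -/

set_option autoImplicit false
set_option linter.unusedSectionVars false

namespace Cfsg.Agent.TUR

open Subgroup H49 FLAV Module
open H79 (cjAut coe_cjAut)
open scoped commutatorElement

universe u v

variable {X : Type u} [Group X] [Finite X] {P H B : Subgroup X} {F : Set (Subgroup X)} {q r : ℕ}
  {K : Type} [Field K]

theorem exists_char [Fact q.Prime] [CharP K q] (h1 : ⁅P, P⁆ ≤ B) (h2 : ∀ y ∈ P, y ^ q ∈ B) {y : X}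
    (hy : y ∈ P) (h : y ∉ B) : ∃ μ : X → K, (∀ a ∈ P, ∀ b ∈ P, μ (a * b) = μ a + μ b) ∧
      (∀ a ∈ P, a ∈ B → μ a = 0) ∧ μ y ≠ 0 := by
  obtain ⟨V, _, _, _, ρ, e, he⟩ := H79.exists_secRep (r := q) (1 : Unit →* X) (U := P)
    (W := B ⊓ P) (fun _ => one_mem _) (fun _ => one_mem _) inf_le_right (le_inf h1 der_le)
    fun u hu => ⟨h2 u hu, pow_mem hu q⟩
  obtain ⟨f, hf⟩ : ∃ f : Dual (ZMod q) V, f (e y) ≠ 0 := by
    by_contra h0
    push Not at h0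
    exact h ((he.zero y hy).1 ((Module.forall_dual_apply_eq_zero_iff _ _).1 h0)).1
  exact ⟨fun a => ZMod.castHom (dvd_refl q) K (f (e a)), fun a ha b hb => by
    simp only [he.mul a ha b hb, map_add], fun a ha hb => by
    simp only [(he.zero a ha).2 ⟨hb, ha⟩, map_zero], (map_ne_zero _).2 hf⟩

/-- The forms vanishing on a member of the family. -/
def vn {U : Type*} [AddCommGroup U] [Module K U] (P : Subgroup X) (F : Set (Subgroup X))
    (e : X → U) : Set (Dual K U) := {ν | ∃ B ∈ F, ∀ y ∈ P, y ∈ B → ν (e y) = 0}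

/-- The module attached to the family `F`. -/
structure ND {Y : Type u} [Group Y] {U : Type u} [AddCommGroup U] [Module K U] (P : Subgroup X)
    (F : Set (Subgroup X)) (π : H →* Y) (ψ : Y →* End K U) (e : X → U) : Prop where
  inj : Function.Injective ψ
  surj : Function.Surjective π
  add : ∀ a ∈ P, ∀ b ∈ P, e (a * b) = e a + e b
  act : ∀ a : H, ∀ y ∈ P, ψ (π a) (e y) = e (a * y * (a : X)⁻¹)
  span : ∀ T : Dual K U, (∀ y ∈ P, T (e y) = 0) → T = 0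
  om : Om ψ (vn P F e)
  ex : ∀ B ∈ F, ∀ y ∈ P, y ∉ B → e y ≠ 0

theorem exists_nd (K : Type) [Field K] [IsAlgClosed K] [Fact q.Prime] [CharP K q] (hH : H ≤ 𝒩(P))
    (h1 : ∀ B ∈ F, ⁅P, P⁆ ≤ B) (h2 : ∀ B ∈ F, ∀ y ∈ P, y ^ q ∈ B)
    (h3 : ∀ B ∈ F, ∀ g ∈ H, B.comap (MulAut.conj g).toMonoidHom ∈ F) :
    ∃ (Y : Type u) (_ : Group Y) (_ : Finite Y) (U : Type u) (_ : AddCommGroup U) (_ : Module K U)
      (_ : FiniteDimensional K U) (π : H →* Y) (ψ : Y →* End K U) (e : X → U), ND P F π ψ e := by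
  classical
  let ρ : H →* End K (X →₀ K) :=
    { toFun := fun a => Finsupp.lmapDomain K K (MulAut.conj (a : X))
      map_one' := by ext; simp
      map_mul' := fun a b => by ext; simp [mul_assoc] }
  have hρ : ∀ (a : H) x, ρ a (Finsupp.single x 1) = Finsupp.single (a * x * (a : X)⁻¹) 1 :=
    fun a x => by simp [ρ]
  let Ω : Set (Dual K (X →₀ K)) := {ν | (∀ x, x ∉ P → ν (Finsupp.single x 1) = 0) ∧
    (∀ a ∈ P, ∀ b ∈ P, ν (Finsupp.single (a * b) 1) = ν (Finsupp.single a 1) + ν (Finsupp.single b 1)) ∧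
    ∃ B ∈ F, ∀ y ∈ P, y ∈ B → ν (Finsupp.single y 1) = 0}
  let J : Submodule K (X →₀ K) := ⨅ ν ∈ Ω, LinearMap.ker ν
  have hJ : ∀ v, v ∈ J ↔ ∀ ν ∈ Ω, ν v = 0 := fun v => by simp [J]
  have hΩ : ∀ a : H, ∀ ν ∈ Ω, ν ∘ₗ ρ a ∈ Ω := fun a ν ⟨e1, e2, B, hB, e3⟩ => by
    refine ⟨fun x hx => ?_, fun x hx y hy => ?_, _, h3 B hB a a.2, fun y hy e => ?_⟩ <;>
      simp only [LinearMap.comp_apply, hρ]
    · exact e1 _ fun e => hx (by simpa [mul_assoc] using cj_mem' (hH a.2) e)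
    · rw [← e2 _ (cj_mem (hH a.2) hx) _ (cj_mem (hH a.2) hy)]; simp [mul_assoc]
    · exact e3 _ (cj_mem (hH a.2) hy) e
  have hI : H79.Inv ρ J := fun a v hv => (hJ _).2 fun ν hν => (hJ v).1 hv _ (hΩ a ν hν)
  let e : X → (X →₀ K) ⧸ J := fun x => J.mkQ (Finsupp.single x 1)
  have h0 : ∀ x, x ∉ P → e x = 0 := fun x hx =>
    (Submodule.Quotient.mk_eq_zero _).2 ((hJ _).2 fun ν hν => hν.1 x hx)
  have hadd : ∀ a ∈ P, ∀ b ∈ P, e (a * b) = e a + e b := fun a ha b hb => by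
    rw [← map_add]
    exact (Submodule.Quotient.eq _).2 <| (hJ _).2 fun ν hν => by rw [map_sub, map_add, hν.2.1 a ha b hb, sub_self]
  have hact : ∀ (a : H) y, quoRep hI a (e y) = e (a * y * (a : X)⁻¹) := fun a y => by
    rw [quoRep_mk, hρ]
  have hl : ∀ ν ∈ Ω, J ≤ LinearMap.ker ν := fun ν hν v hv => (hJ v).1 hv ν hν
  refine ⟨_, inferInstance, inferInstance, _, inferInstance, inferInstance, inferInstance,
    QuotientGroup.mk' _, H79.fth (quoRep hI), e, H79.fth_injective _, QuotientGroup.mk'_surjective _,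
    hadd, fun a y _ => hact a y, fun T hT => ?_, ⟨fun g ν ⟨B, hB, hν⟩ => ?_, fun u hu => ?_⟩,
    fun B hB y hy hyB e0 => ?_⟩
  · refine Submodule.linearMap_qext _ (Finsupp.lhom_ext' fun x => LinearMap.ext_ring ?_)
    by_cases hx : x ∈ P
    · exact hT x hx
    · exact (congrArg T (h0 x hx)).trans (map_zero T)
  · obtain ⟨a, rfl⟩ := QuotientGroup.mk'_surjective _ g
    exact ⟨_, h3 B hB a a.2, fun y hy e =>
      (congrArg ν (hact a y)).trans (hν _ (cj_mem (hH a.2) hy) e)⟩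
  · obtain ⟨v, rfl⟩ := J.mkQ_surjective u
    exact (Submodule.Quotient.mk_eq_zero _).2 ((hJ v).2 fun ν hν =>
      hu (J.liftQ ν (hl ν hν)) hν.2.2)
  obtain ⟨μ, m1, m2, m3⟩ := exists_char (K := K) (h1 B hB) (h2 B hB) hy hyB
  have := (hJ _).1 ((Submodule.Quotient.mk_eq_zero _).1 e0)
    (Finsupp.linearCombination K fun x => if x ∈ P then μ x else 0)
    ⟨fun x hx => by simp [hx], fun a ha b hb => by simp [ha, hb, mul_mem ha hb, m1 a ha b hb],
      B, hB, fun a ha hb => by simp [ha, m2 a ha hb]⟩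
  exact m3 (by simpa [hy] using this)

namespace ND
variable {Y : Type u} [Group Y] {U : Type u} [AddCommGroup U] [Module K U] {π : H →* Y}
  {ψ : Y →* End K U} {e : X → U} (h : ND P F π ψ e) (hH : H ≤ 𝒩(P))
include h

theorem one : e 1 = 0 := by simpa using h.add 1 (one_mem _) 1 (one_mem _)

include hH

omit h in
theorem cm (a : H) {y : X} (hy : y ∈ P) : ⁅(a : X), y⁆ ∈ P :=
  mul_mem (cj_mem (hH a.2) hy) (inv_mem hy)

theorem comm (a : H) {y : X} (hy : y ∈ P) : e ⁅(a : X), y⁆ = ψ (π a) (e y) - e y := by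
  rw [h.act a y hy, eq_sub_iff_add_eq, ← h.add _ (cm hH a hy) y hy, commutatorElement_def,
    inv_mul_cancel_right]

theorem comm_mem {a : H} (ha : π a = 1) (hB : B ∈ F) {y : X} (hy : y ∈ P) : ⁅(a : X), y⁆ ∈ B :=
  by_contra fun e => h.ex B hB _ (cm hH a hy) e (by
    rw [h.comm hH a hy, ha, map_one, End.one_apply, sub_self])

theorem exists_comm {a : H} (ha : π a ≠ 1) : ∃ B ∈ F, ∃ y ∈ P, ⁅(a : X), y⁆ ∉ B := by
  by_contra h0
  push Not at h0
  refine ha (h.inj (LinearMap.ext fun u => sub_eq_zero.1 (h.om.sep _ fun ν ⟨B, hB, hν⟩ => ?_)))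
  rw [map_one]
  exact LinearMap.congr_fun (h.span (ν ∘ₗ (ψ (π a) - 1)) fun y hy =>
    (congrArg ν (h.comm hH a hy)).symm.trans (hν _ (cm hH a hy) (h0 B hB y hy))) u

theorem not_le {s : H} {ν : Dual K U} (hν : ∀ y ∈ P, y ∈ B → ν (e y) = 0) (h1 : ν ∘ₗ ψ (π s) ≠ ν) :
    ¬ kk (s : X) P ≤ B := fun hle => h1 (sub_eq_zero.1 (h.span _ fun y hy => by
  rw [LinearMap.sub_apply, LinearMap.comp_apply, ← map_sub, ← h.comm hH s hy]
  exact hν _ (cm hH s hy) (commutatorElement_inv y (s : X) ▸ inv_mem (hle (comm_mem_kk hy)))))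

variable [Finite Y]

theorem exists_cent {s : H} (hc : Cop r P (s : X)) (hr : (r : K) ≠ 0) {T : U →ₗ[K] U} {u : U}
    (hu : ψ (π s) u = u) {ν : Dual K U} (h0 : ν (T u) ≠ 0) :
    ∃ c ∈ P ⊓ 𝒞[(s : X)], ν (T (e c)) ≠ 0 := by
  by_contra h1
  push Not at h1
  have hs : π s ^ r = 1 := by rw [← map_pow, show s ^ r = 1 from Subtype.ext hc.pow, map_one]
  let L : Subgroup X :=
    { carrier := {y | y ∈ P ∧ nm ψ (π s) r (e y) = 0}
      one_mem' := ⟨one_mem _, by rw [h.one, map_zero]⟩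
      mul_mem' := fun {a b} ha hb => ⟨mul_mem ha.1 hb.1, by
        rw [h.add a ha.1 b hb.1, map_add, ha.2, hb.2, add_zero]⟩
      inv_mem' := fun {a} ha => ⟨inv_mem ha.1, by
        have := congrArg (nm ψ (π s) r) (h.add _ (inv_mem ha.1) a ha.1)
        rwa [inv_mul_cancel, h.one, map_zero, map_add, ha.2, add_zero, eq_comm] at this⟩ }
  have hL : kk (s : X) P ≤ L := kk_le_of (inv_of_forall fun y hy => ⟨cj_mem (hH s.2) hy.1, by
    rw [← h.act s y hy.1, nm_apply hs, hy.2]⟩) fun y hy => commutatorElement_inv (s : X) y ▸ inv_mem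
      ⟨cm hH s hy, by rw [h.comm hH s hy, map_sub, nm_apply hs, sub_self]⟩
  have := h.span (ν ∘ₗ T ∘ₗ nm ψ (π s) r) fun y hy => by
    obtain ⟨a, ha, b, hb, rfl⟩ := hc.dec le_rfl (hH s.2) hy
    have : ψ (π s) (e b) = e b := by
      rw [h.act s b hb.1, ← mem_cent1.1 hb.2, mul_inv_cancel_right]
    simp [h.add a (hL ha).1 b hb.1, (hL ha).2, nm_of_fix this, h1 b hb]
  have := LinearMap.congr_fun this u
  simp [nm_of_fix hu, hr, h0] at this

theorem of_not_bad {s : H} (hc : Cop r P (s : X)) (hr : (r : K) ≠ 0) {T : U →ₗ[K] U} {u : U}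
    (hu : ψ (π s) u = u) (h1 : ψ (π s) (T u) = T u) (h2 : T u ∉ bad ψ (vn P F e) (π s)) :
    ∃ B ∈ F, ¬ kk (s : X) P ≤ B ∧ ∃ c ∈ P ⊓ 𝒞[(s : X)], ∀ y ∈ P, e y = T (e c) → y ∉ B := by
  obtain ⟨ν, ⟨B, hB, hν⟩, h3, h4⟩ : ∃ ν ∈ vn P F e, ν ∘ₗ ψ (π s) ≠ ν ∧ ν (T u) ≠ 0 := by
    by_contra e
    push Not at e
    exact h2 ⟨h1, e⟩
  obtain ⟨c, hc, h5⟩ := h.exists_cent hH hc hr hu h4
  exact ⟨B, hB, h.not_le hH hν h3, c, hc, fun y hy e e' => h5 (e ▸ hν y hy e')⟩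

theorem of_not_fx {s a : H} (hc : Cop r P (s : X)) (hr : (r : K) ≠ 0) (ha : (a : X) ∈ 𝒞[(s : X)])
    (h1 : π a ∉ fx ψ (vn P F e) (π s)) :
    ∃ B ∈ F, ¬ kk (s : X) P ≤ B ∧ ∃ c ∈ P ⊓ 𝒞[(s : X)], ⁅(a : X), c⁆ ∉ B := by
  have ha' := im_cent1 π ha
  obtain ⟨u, hu, h2⟩ : ∃ u, ψ (π s) u = u ∧ ψ (π a) u - u ∉ bad ψ (vn P F e) (π s) := by
    by_contra e
    push Not at e
    exact h1 ⟨ha', e⟩
  obtain ⟨B, hB, h3, c, hc, h4⟩ := h.of_not_bad hH hc hr (T := ψ (π a) - 1) hu (by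
    rw [LinearMap.sub_apply, End.one_apply, map_sub, fix_of_cent ha' hu, hu]) h2
  exact ⟨B, hB, h3, c, hc, h4 _ (cm hH a hc.1) (h.comm hH a hc.1)⟩

end ND

end Cfsg.Agent.TUR
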