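import Cfsg.Agent.TUR.S2
import Cfsg.Agent.TUR.N1

/-! The induction along the tower. -/

set_option autoImplicit false
set_option linter.unusedSectionVars false

namespace Cfsg.Agent.TUR

open Subgroup H49 H44 FLAV Module
open scoped commutatorElement

universe u

section
variable {X : Type u} [Group X] [Finite X] {C J L P : Subgroup X} {x : X} {i q : ℕ}

theorem le_lns (hJ : J ≤ C) (h : J ≤ ⁅J, lns i C⁆) : J ≤ lns (i + 1) C := by
  have : ∀ k ≤ i + 1, J ≤ lns k C := fun k => by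
    induction k with
    | zero => exact fun _ => hJ
    | succ k ih => exact fun hk => le_nilRes (h.trans (commutator_mono le_rfl
        (lns_antitone C (by omega)))) (ih (by omega))
  exact this _ le_rfl

theorem kk_le_lns (hP : P ≤ C) (hq : IsPi {q} P) (hx : x ∈ lns i C) (hn : x ∈ 𝒩(P))
    (h : IsPiElt {q}ᶜ x) : kk x P ≤ lns (i + 1) C :=
  le_lns ((kk_le hn).trans hP) ((coprime_comm_comm (zn hn) ((isPi_zpowers.2 h).coprime' hq)
    (.inl (solv_zp x))).ge.trans (commutator_mono le_rfl (zpowers_le.2 hx)))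

theorem exists_elt (h : ¬ IsPi {q} L) : ∃ x ∈ L, x ≠ 1 ∧ IsPiElt {q}ᶜ x := by
  by_contra e
  push Not at e
  refine h (isPi_of_elt fun x hx => ?_)
  obtain ⟨y, -, z, hz, rfl, h1, h2⟩ := exists_pi_decomp {q} x
  have : z = 1 := by_contra fun h3 => e z (zpowers_le.2 hx hz) h3 h2
  rwa [this, mul_one]

end

/-- The fixed points of `σ` act on its fixed vectors. -/
def Act {K : Type} [Field K] {X : Type u} [Group X] {U : Type u} [AddCommGroup U] [Module K U]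
    (p : ℕ) (φ : X →* End K U) (Ω : Set (Dual K U)) (σ : X) (C : Subgroup X) : ℕ → Prop
  | 0 => ∃ u, φ σ u = u ∧ u ∉ bad φ Ω σ
  | i + 1 => ∃ x ∈ lns i C, IsPiElt {p}ᶜ x ∧ x ∉ fx φ Ω σ

theorem main (r n : ℕ) : ∀ (K : Type) [Field K] [IsAlgClosed K] (p : ℕ) [Fact p.Prime] [CharP K p]
    (X : Type u) [Group X] [Finite X] (U : Type u) [AddCommGroup U] [Module K U]
    [FiniteDimensional K U] (φ : X →* End K U) (Ω : Set (Dual K U)) (G : Subgroup X) (σ : X) (j : ℕ),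
    Nat.card G = n → Function.Injective φ → Om φ Ω → r ≠ p → Cop r G σ → σ ∈ 𝒩(G) →
    Group.IsSolvable G → ¬ IsPi {p} (lns (j + 1) G) →
    ¬ IsPi {p} (lns (j + 1) (G ⊓ 𝒞[σ])) ∨ Act p φ Ω σ (G ⊓ 𝒞[σ]) j := by
  induction n using Nat.strong_induction_on with
  | _ n ih =>
  intro K _ _ p hp _ X _ _ U _ _ _ φ Ω G σ j hn hφ hΩ hrp hc hi hs h1
  obtain ⟨q, P, N, E, hqp, hS⟩ := exists_sel hs hc hi h1
  have cast : ∀ (F : Type) [Field F] (a b : ℕ) [CharP F a], a.Prime → b.Prime → b ≠ a → (b : F) ≠ 0 :=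
    fun F _ a b _ ha hb h e => h ((Nat.prime_dvd_prime_iff_eq ha hb).1
      ((CharP.cast_eq_zero_iff F a b).1 e)).symm
  have h : Cx φ Ω q r j G σ P N E :=
    ⟨hS, hφ, hΩ, hc, cast K p q hp.out hS.pr hqp, cast K p r hp.out hc.pr hrp, p, hp.out, ‹_›⟩
  set C := G ⊓ 𝒞[σ]
  have hNG := hS.lt.le
  have hC : N ⊓ 𝒞[σ] ≤ C := inf_le_inf_right _ hNG
  have hP₀ : P ⊓ 𝒞[σ] ≤ C := inf_le_inf_right _ hS.le
  have hPp : IsPi {p}ᶜ P := hS.pi.compl_singleton_of_ne hqp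
  have left : ∀ J, J ≤ P → J ≠ ⊥ → J ≤ lns (j + 1) C → ¬ IsPi {p} (lns (j + 1) C) :=
    fun J h1 h2 h3 e => h2 ((e.of_le h3).eq_bot (hPp.of_le h1))
  by_cases hD : kk σ P = ⊥
  · have h2 := kk_eq_bot.1 hD
    have h3 : N ≤ N ⊓ 𝒞[σ] ⊔ 𝒞(P) := hc.le_of_parts hNG hS.iN (le_sup_of_le_right
      (H50.commutator_cent_of_cent (cent_symm (cent_zpowers σ ▸ h2)) hS.nP)) le_sup_left
    have h4 := hS.EN.trans (lns_le_sup (norm_cent hS.nP) inf_le_left h3 j)
    refine .inl (left P le_rfl hS.ne (le_lns (le_inf hS.le h2) (hS.comm.ge.trans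
      (commutator_le.2 fun y hy e he => ?_))))
    obtain ⟨a, ha, b, hb, rfl⟩ := (mem_sup_of_norm_right ((lns_le j _).trans
      (inf_le_left.trans (norm_cent hS.nP)))).1 (h4 he)
    have : ⁅y, a * b⁆ = ⁅y, a⁆ * (a * ⁅y, b⁆ * a⁻¹) := by group
    rw [this, commutatorElement_eq_one_iff_mul_comm.2 (hb y hy), mul_one, mul_inv_cancel, mul_one]
    exact commutator_mem_commutator hy (lns_mono j hC ha)
  obtain ⟨A, hA, hDA⟩ := h.exists_fam hD
  cases j with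
  | zero => exact .inr (h.nz hA hDA)
  | succ i =>
  haveI := Fact.mk hS.pr
  have hH : N ⊔ zpowers σ ≤ 𝒩(P) := sup_le hS.nP (zn hS.iP)
  obtain ⟨Y, _, _, V, _, _, _, π, ψ, e, hN⟩ := exists_nd (q := q) (AlgebraicClosure (ZMod q)) hH
    (F := fam φ P) (fun B hB => h.der_le_fam hB) (fun B hB y hy => h.pow_mem_fam hB hy)
    fun B hB g hg => fam_conj hB (hH hg)
  let s : ↥(N ⊔ zpowers σ) := ⟨σ, mem_sup_right (mem_zpowers σ)⟩
  have hrq : r ≠ q := fun e => hS.ne (hS.pi.eq_bot ((isPi_compl_singleton hS.pr).2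
    (e ▸ (hc.mono hS.le).cop)))
  have hrK := cast (AlgebraicClosure (ZMod q)) q r hS.pr hc.pr hrq
  have hcP : Cop r P (s : X) := hc.mono hS.le
  have IH := ih _ (hn ▸ (Nat.le_of_dvd (card_pos' N) (im_card_dvd π le_sup_left)).trans_lt
    (card_lt_of_lt hS.lt)) _ q Y V ψ _ (morphim π N) (π s) i rfl hN.inj hN.om hrq
    (im_cop π le_sup_left (hc.mono hNG)) (im_norm1 π hS.iN) (im_solv π (solvable_of_le hs hNG))
    fun e => hDA ((kk_le hS.iP).trans (hS.comm.ge.trans (commutator_le.2 fun y hy a ha => by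
      let a' : ↥(N ⊔ zpowers σ) := ⟨a, mem_sup_left (lns_le _ N (hS.EN ha))⟩
      exact commutatorElement_inv a y ▸ inv_mem (hN.comm_mem hH (a := a') ((e.elt
        (im_lns π le_sup_left _ ▸ im_mem π (hS.EN ha))).eq_one (piElt_map π (hS.piE.elt ha))) hA hy))))
  rw [← im_inf_cent π le_sup_left hS.iN (hc.mono hNG)] at IH
  have hl : ∀ k, lns k (morphim π (N ⊓ 𝒞[σ])) = morphim π (lns k (N ⊓ 𝒞[σ])) := fun k =>
    (im_lns π (inf_le_left.trans le_sup_left) k).symm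
  have hk : ∀ k, ∀ x ∈ lns k (N ⊓ 𝒞[σ]), IsPiElt {q}ᶜ x → kk x (P ⊓ 𝒞[σ]) ≤ lns (k + 1) C :=
    fun k x hx h2 => kk_le_lns hP₀ (hS.pi.of_le inf_le_left) (lns_mono k hC hx)
      (inv_inf (hS.nP (lns_le k _ hx).1) (le_normalizer (lns_le k _ hx).2)) h2
  rcases IH with IH | IH
  · obtain ⟨x', h2, h3, h4⟩ := exists_elt IH
    obtain ⟨x, hx, rfl, h5⟩ := im_lift π (hl _ ▸ h2) h4
    have hx' := lns_le _ _ hx
    by_cases h6 : kk (x : X) (P ⊓ 𝒞[σ]) = ⊥
    swap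
    · exact .inl (left _ ((kk_le (inv_inf (hS.nP hx'.1) (le_normalizer hx'.2))).trans inf_le_left)
        h6 (hk _ _ hx h5))
    refine .inr (by_contra fun h7 => ?_)
    replace h7 : ∀ g ∈ lns i C, IsPiElt {p}ᶜ g → g ∈ fx φ Ω σ := fun g h8 h9 =>
      by_contra fun e => h7 ⟨g, h8, h9, e⟩
    obtain ⟨B, hB, y, hy, h8⟩ := hN.exists_comm hH h3
    have := h.base hB (M := lns i (N ⊓ 𝒞[σ])) (fun g hg => have := lns_le _ _ hg
      ⟨⟨hNG this.1, hS.nP this.1⟩, this.2⟩) (solvable_of_le hs ((lns_le _ _).trans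
      (inf_le_left.trans hNG))) (fun L hL => ?_)
      (nilRes_le_of_elts (p := p) fun g hg => h7 g (lns_mono i hC hg)) hx h5
    · obtain ⟨d, hd, c, hc', rfl⟩ := hc.dec hS.le hS.iP hy
      have e : ⁅(x : X), d * c⁆ = ⁅d, (x : X)⁆⁻¹ * (d * ⁅(x : X), c⁆ * d⁻¹) := by group
      rw [e, commutatorElement_eq_one_iff_mul_comm.2 (mem_cent1.1 (kk_eq_bot.1 h6 hc')).symm,
        mul_one, mul_inv_cancel, mul_one] at h8
      exact h8 (inv_mem (this d hd))
    cases i with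
    | zero =>
      refine fun g hg => hL g ⟨hS.nP hg.1, hg.2⟩ fun z hz => ?_
      have := cm_mem (inv_inf (hS.nP hg.1) (le_normalizer hg.2)) hz
      exact h7 _ (hP₀ this) (hPp.elt this.1)
    | succ i =>
      refine nilRes_le_of_elts (p := q) fun g hg h9 => ?_
      have hg' := lns_le _ _ hg
      exact hL g ⟨hS.nP hg'.1, hg'.2⟩ fun z hz => h7 _ (hk _ g hg h9 (comm_mem_kk hz))
        (hPp.elt (cm_mem (hS.nP hg'.1) hz.1))
  right
  cases i with
  | zero =>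
    obtain ⟨u, h2, h3⟩ := IH
    obtain ⟨B, hB, h4, c, hc', h5⟩ := hN.of_not_bad hH hcP hrK (T := LinearMap.id) h2 h2 h3
    exact ⟨c, hP₀ hc', hPp.elt hc'.1, fun e => h5 c hc'.1 rfl (h.step hB h4 hc'.1 e)⟩
  | succ i =>
    obtain ⟨x', h2, h3, h4⟩ := IH
    obtain ⟨x, hx, rfl, h5⟩ := im_lift π (hl _ ▸ h2) h3
    have hx' := lns_le _ _ hx
    obtain ⟨B, hB, h6, c, hc', h7⟩ := hN.of_not_fx hH hcP hrK hx'.2 h4
    have h8 := ND.cm hH x hc'.1
    exact ⟨_, commutatorElement_inv c (x : X) ▸ inv_mem (hk _ _ hx h5 (comm_mem_kk hc')),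
      hPp.elt h8, fun e => h7 (h.step hB h6 h8 e)⟩

/-- The Fitting height of `G` exceeds that of the fixed points by at most two. -/
theorem lns_bot {X : Type u} [Group X] [Finite X] {G : Subgroup X} {σ : X} {r n : ℕ}
    (hc : Cop r G σ) (hi : σ ∈ 𝒩(G)) (hs : Group.IsSolvable G) (h : lns n (G ⊓ 𝒞[σ]) = ⊥) :
    lns (n + 2) G = ⊥ := by
  obtain ⟨p, h1, hp⟩ := Nat.exists_infinite_primes (Nat.card G + r + 1)
  haveI := Fact.mk hp
  obtain ⟨U, _, _, _, φ, hφ⟩ := H79.exists_faithful_rep (AlgebraicClosure (ZMod p)) X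
  have h2 : IsPi {p}ᶜ G := (isPi_compl_singleton hp).2 fun e => by
    have := Nat.le_of_dvd (card_pos' G) e
    omega
  by_contra h3
  rcases main r _ _ p X U φ Set.univ G σ (n + 1) rfl hφ ⟨fun _ _ _ => trivial, fun u hu =>
    (Module.forall_dual_apply_eq_zero_iff _ u).1 fun ν => hu ν trivial⟩ (by omega) hc hi hs
    (fun e => h3 (e.eq_bot (h2.of_le (lns_le _ G)))) with e | ⟨x, hx, -, e⟩
  · exact e ((isPi_bot _).of_le (h ▸ lns_antitone _ (by omega)))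
  · exact e (mem_bot.1 (h ▸ hx) ▸ one_mem _)

end Cfsg.Agent.TUR
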