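import Cfsg.Agent.TUR.G1

/-! An operator fixing the fixed space of another one, both normalizing a group of class two. -/

set_option autoImplicit false
set_option linter.unusedSectionVars false

namespace Cfsg.Agent.TUR

open Module Finset H79
open scoped commutatorElement

universe u

variable {K : Type*} [Field K] {Q : Type u} [Group Q] {U : Type*} [AddCommGroup U] [Module K U]
  [IsAlgClosed K] [FiniteDimensional K U]

theorem coord_eigen {ι : Type*} [Fintype ι] (B : Basis ι K U) {s : End K U} {l : ι → K}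
    (hl : ∀ i, s (B i) = l i • B i) (v : U) (i : ι) : B.repr (s v) i = l i * B.repr v i := by
  classical
  conv_lhs => rw [← B.sum_repr v, map_sum]
  simp only [map_smul, hl, map_sum, Basis.repr_self]
  simp [Finsupp.single_apply, mul_comm]

theorem sum_sq_le [DecidableEq K] {ι : Type*} [Fintype ι] (B : Basis ι K U) {b : End K U}
    {l : ι → K} (hl : ∀ i, b (B i) = l i • B i) {C : Submodule K (End K U)}
    (hC : ∀ X, b * X = X * b → X ∈ C) {S : Finset K} (hlS : ∀ i, l i ∈ S) :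
    ∑ c ∈ S, (univ.filter fun i => l i = c).card ^ 2 ≤ finrank K C := by
  classical
  let P : Finset (_ × _) := univ.filter fun p => l p.1 = l p.2
  have hP : P.card ≤ finrank K C := by
    let E : P → C := fun p => ⟨B.end p.1, hC _ (B.ext fun k => by
      have h2 : l p.1.1 = l p.1.2 := (mem_filter.1 p.2).2
      rw [End.mul_apply, End.mul_apply, hl, map_smul, Basis.end_apply_apply]
      split_ifs with h3
      · rw [hl, h2, h3]
      · simp)⟩
    have hE : LinearIndependent K E := LinearIndependent.of_comp C.subtype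
      (B.end.linearIndependent.comp _ Subtype.val_injective)
    simpa using hE.fintype_card_le_finrank
  refine le_of_eq_of_le ?_ hP
  rw [card_eq_sum_card_fiberwise (f := fun p : _ × _ => l p.1) (t := S) fun p _ => hlS _]
  refine sum_congr rfl fun c _ => ?_
  rw [sq, ← card_product]
  congr 1
  ext p
  simp only [P, mem_filter, mem_univ, true_and, mem_product]
  exact ⟨fun ⟨h2, h3⟩ => ⟨h2.trans h3.symm, h2⟩, fun ⟨h2, h3⟩ => ⟨h3, h2 ▸ h3⟩⟩

variable [Fintype Q] [Nontrivial U] {ρ : Q →* End K U} {q : ℕ}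

theorem rad_inj (hi : Function.Injective ρ) : rad ρ = Subgroup.center Q :=
  le_antisymm (fun g hg => Subgroup.mem_center_iff.2 fun k => hi (by
    rw [map_mul, map_mul, mem_rad.1 hg])) (center_le_rad ρ)

/-- The order of a semiregular automorphism, computed in characteristic zero. -/
theorem le_of_semireg (hρ : Irr ρ) (hi : Function.Injective ρ) (hq : q.Prime) (hQ : IsPGroup q Q)
    (hK : (Fintype.card Q : K) ≠ 0) (hcl : ∀ g k : Q, ⁅g, k⁆ ∈ rad ρ) (hD : finrank K U ≠ 1)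
    {γ : MulAut Q} (hγ : γ ∈ isoStab ρ) {N : ℕ} (hN : N ≠ 0) (hγN : γ ^ N = 1)
    (hfix : ∀ g i, 0 < i → i < N → g⁻¹ * (γ ^ i) g ∈ rad ρ → g ∈ rad ρ) :
    N ≤ finrank K U + 1 := by
  classical
  haveI := Fact.mk hq
  have hR := rad_inj hi
  obtain ⟨l, hl⟩ := hρ.exists_centralChar
  haveI : IsCyclic (Subgroup.center Q) := isCyclic_of_injective_ringHom l fun a b h =>
    Subtype.ext (hi (by rw [hl, hl, h]))
  obtain ⟨c, hc⟩ := IsCyclic.exists_generator (α := Subgroup.center Q)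
  obtain ⟨n, hn⟩ := (IsPGroup.iff_orderOf.1 (hQ.to_subgroup _)) c
  have hidx := hρ.index_rad hK hcl
  have hpos : 0 < finrank K U := finrank_pos
  obtain ⟨n, rfl⟩ : ∃ m, n = m + 1 := Nat.exists_eq_succ_of_ne_zero (by
    rintro rfl
    haveI : Nontrivial Q := by
      by_contra h
      rw [not_nontrivial_iff_subsingleton] at h
      rw [Subsingleton.elim (rad ρ) ⊤, Subgroup.index_top] at hidx
      exact hD (by nlinarith)
    haveI := hQ.center_nontrivial
    obtain ⟨z, hz⟩ := exists_ne (1 : Subgroup.center Q)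
    have := hc z
    rw [show c = 1 from orderOf_eq_one_iff.1 (by simpa using hn),
      Subgroup.zpowers_one_eq_bot] at this
    exact hz this)
  obtain ⟨V, _, _, _, τ, hτ⟩ := exists_faithful_rep (AlgebraicClosure ℚ) Q
  have hK0 : (Fintype.card Q : AlgebraicClosure ℚ) ≠ 0 := Nat.cast_ne_zero.2 Fintype.card_ne_zero
  obtain ⟨W, hW, hW0, hWi, hz⟩ := exists_irr_ne τ hK0 (g := ((c ^ q ^ n : Subgroup.center Q) : Q))
    (k := 1) fun h => pow_ne_one_of_lt_orderOf (pow_pos hq.pos n).ne' (by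
      rw [hn]; exact Nat.pow_lt_pow_right hq.one_lt (by omega)) (Subtype.ext (hτ h))
  haveI : Nontrivial W := Submodule.nontrivial_iff_ne_bot.2 hW0
  have hR' : rad hW.res = rad ρ := hR ▸ rad_eq_center (by
    rw [commutator_def, Subgroup.commutator_le]; exact fun g _ k _ => hR ▸ hcl g k) fun z hz' h => by
    by_contra h1
    obtain ⟨i, hi1, e⟩ := Finset.mem_image.1 ((mem_zpowers_iff_mem_range_orderOf).1 (hc ⟨z, hz'⟩))
    have e' : (c : Q) ^ i = z := congrArg Subtype.val e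
    obtain ⟨j, hj, -, h2⟩ := pow_mem_of_pow_mem_lt (S := hW.res.ker) (α := (c : Q)) hq
      (Nat.pos_of_ne_zero fun h => h1 (by rw [← e', h, pow_zero])) (hn ▸ mem_range.1 hi1)
      (e' ▸ h) (by rw [← hn, ← Subgroup.coe_pow, pow_orderOf_eq_one]; exact one_mem _)
    exact hz ((pow_pow_mem_of_le hj h2).trans (map_one _).symm)
  have hcl' : ∀ g k : Q, ⁅g, k⁆ ∈ rad hW.res := hR' ▸ hcl
  obtain ⟨b, hb, hb'⟩ := hWi.exists_op (hWi.mem_isoStab_of_rad hK0 hcl' (β := γ) fun g hg => by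
    obtain ⟨t, ht⟩ := hρ.smul_of_mem_rad (hR' ▸ hg)
    rw [hi (eq_of_isoStab_of_smul hγ ht)]) hN fun g => by rw [hγN]; rfl
  have h1 := hWi.dade hK0 hcl' hb' (Nat.cast_ne_zero.2 hN) hb hγN (hR' ▸ hfix)
  have h2 := hWi.index_rad hK0 hcl'
  rw [hR', hidx] at h2
  rw [← Nat.pow_left_injective two_ne_zero h2] at h1
  rcases h1 with h | h
  · exact Nat.le_of_dvd (by omega) h
  · have := Nat.le_of_dvd (by omega) h; omega

/-- In the modular case the fixed space is at most a line. -/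
theorem fix_le_one (hρ : Irr ρ) (hK : (Fintype.card Q : K) ≠ 0) {γ : MulAut Q} {s b : End K U}
    (hb : ∀ g, b * ρ g = ρ (γ g) * b) {n N : ℕ} (hn : n ≠ 0) (hbn : b ^ n = 1) (hN : 0 < N)
    (hNK : (N : K) = 0) (hγ : γ ^ N = 1)
    (hfix : ∀ g i, 0 < i → i < N → g⁻¹ * (γ ^ i) g ∈ rad ρ → g ∈ rad ρ) (hsb : Commute s b)
    (h1 : ∀ v, s v = v → b v = v) {ι : Type*} [Fintype ι] (B : Basis ι K U) {l : ι → K}
    (hl : ∀ i, s (B i) = l i • B i) {i j : ι} (hi : l i = 1) (hj : l j = 1) : i = j := by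
  classical
  by_contra hne
  have hc : ∀ k, l k = 1 → B.coord k ∘ₗ b = B.coord k := fun k hk => B.ext fun m => by
    by_cases h : l m = 1
    · rw [LinearMap.comp_apply, h1 _ (by rw [hl, h, one_smul])]
    have e := coord_eigen B hl (b (B m)) k
    rw [← End.mul_apply, hsb.eq, End.mul_apply, hl, map_smul, map_smul, hk, Finsupp.smul_apply,
      smul_eq_mul] at e
    have : m ≠ k := fun e => h (e ▸ hk)
    simpa [Finsupp.single_apply, this] using (mul_eq_mul_right_iff.1 e).resolve_left h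
  have hB : ∀ k, l k = 1 → b (B k) = B k := fun k hk => h1 _ (by rw [hl, hk, one_smul])
  have e1 : b * b ^ (n - 1) = 1 := by rw [← pow_succ', Nat.sub_add_cancel (by omega), hbn]
  have e2 : b ^ (n - 1) * b = 1 := by rw [← pow_succ, Nat.sub_add_cancel (by omega), hbn]
  obtain ⟨c, ψ, h⟩ := hρ.exists_eq_add_norm hK hb e1 e2 hN hγ (fun g k h0 h2 e =>
    hρ.smul_of_mem_rad (hfix g k h0 h2 (by rw [e, inv_mul_cancel]; exact one_mem _)))
    (φ := (B.coord j).smulRight (B i)) (LinearMap.ext fun v => by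
      have := LinearMap.congr_fun (hc j hj) v
      simp only [End.mul_apply, LinearMap.smulRight_apply, map_smul, hB i hi]
      rw [← this]; rfl)
  have key : ∀ (m : ℕ) (X : End K U), B.coord i ((((LinearMap.mulLeft K b *
      LinearMap.mulRight K (b ^ (n - 1)) : End K (End K U)) ^ m) X) (B j)) =
        B.coord i (X (B j)) := fun m => by
    induction m with
    | zero => exact fun _ => rfl
    | succ m ih =>
      intro X
      rw [pow_succ, End.mul_apply, ih]
      have := LinearMap.congr_fun (hc i hi) (X (B j))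
      simpa [pow_apply_eq_self (hB j hj)] using this
  have := congrArg (fun X : End K U => B.coord i (X (B j))) h
  simp only [LinearMap.add_apply, LinearMap.sum_apply, map_add, map_sum, key] at this
  simp [hNK, Finsupp.single_apply, Ne.symm hne] at this

theorem count_arith {r τ D s a : ℕ} (h1 : r * τ + 1 = (D + 1) ^ 2) (h2 : D ^ 2 ≤ s * a)
    (h3 : a + 1 ≤ τ + 1) (h4 : s + 1 ≤ r) (hD : 0 < D) : D + 2 ≤ 2 * r := by
  have h5 : D ^ 2 ≤ s * τ := h2.trans (Nat.mul_le_mul_left _ (by omega))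
  have h6 : r * D ^ 2 ≤ s * (D * (D + 2)) := by nlinarith
  have h7 : r * D ≤ s * (D + 2) := by nlinarith
  nlinarith

/-- The counting lemma. -/
theorem count (hρ : Irr ρ) (hi : Function.Injective ρ) (hq : q.Prime) (hQ : IsPGroup q Q)
    (hK : (Fintype.card Q : K) ≠ 0) (hcl : ∀ g k : Q, ⁅g, k⁆ ∈ rad ρ) (hD : finrank K U ≠ 1)
    {α β : MulAut Q} {s y : End K U} (hs : ∀ g, s * ρ g = ρ (α g) * s)
    (hy : ∀ g, y * ρ g = ρ (β g) * y) {r n ℓ k : ℕ} (hr : r.Prime) (hrK : (r : K) ≠ 0)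
    (hsr : s ^ r = 1) (hα : α ^ r = 1) (hsy : Commute s y) (hαβ : Commute α β) (hn : n ≠ 0)
    (hyn : y ^ n = 1) (hℓ : ℓ.Prime) (hℓr : ℓ ≠ r) (hβ : β ^ ℓ ^ (k + 1) = 1)
    (hfα : ∀ g i, 0 < i → i < r → g⁻¹ * (α ^ i) g ∈ rad ρ → g ∈ rad ρ)
    (hfix : ∀ g i, 0 < i → i < r * ℓ ^ (k + 1) → g⁻¹ * ((α * β) ^ i) g ∈ rad ρ → g ∈ rad ρ)
    (h1 : ∀ v, s v = v → y v = v) :
    ℓ ^ (k + 1) = 2 ∧ finrank K U + 1 = 2 * r ∧ ∃ v ≠ 0, s v = v := by
  classical
  have ht2 : 2 ≤ ℓ ^ (k + 1) := hℓ.two_le.trans (Nat.le_self_pow (by omega) ℓ)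
  have hco : (ℓ ^ (k + 1)).Coprime r := ((Nat.coprime_primes hℓ hr).2 hℓr).pow_left _
  have hℓK : (ℓ : K) = 0 ↔ ((ℓ ^ (k + 1) : ℕ) : K) = 0 := by simp
  generalize ℓ ^ (k + 1) = t at *
  have hN : 0 < r * t := Nat.mul_pos hr.pos (by omega)
  have hγ : (α * β) ^ (r * t) = 1 := by
    rw [hαβ.mul_pow, pow_mul, hα, one_pow, one_mul, mul_comm, pow_mul, hβ, one_pow]
  have hb : ∀ g, s * y * ρ g = ρ ((α * β) g) * (s * y) := fun g => by
    rw [mul_assoc, hy, ← mul_assoc, hs, mul_assoc]; rfl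
  have hbn : (s * y) ^ (r * n) = 1 := by
    rw [hsy.mul_pow, pow_mul, hsr, one_pow, one_mul, mul_comm, pow_mul, hyn, one_pow]
  by_cases ht : (t : K) = 0
  · have hB := le_of_semireg hρ hi hq hQ hK hcl hD (mem_isoStab_of_ne_zero hρ (j := s * y)
      (fun h => by simp [h, hr.ne_zero, hn] at hbn) fun g v => congrArg (· v) (hb g)) hN.ne' hγ hfix
    by_cases h0 : ∀ v, s v = v → v = 0
    · have := (hρ.crit_coprime hK hcl hs hrK hsr hα hfα h0).resolve_left hD
      nlinarith [hr.pos]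
    push Not at h0
    obtain ⟨B, l, hl, hl'⟩ := H5.exists_eigenbasis_of_pow_eq_one s r hrK hsr
    obtain ⟨τ, hτ, C, hC, hCt⟩ := hρ.finrank_commutant_le hK hcl hs hrK hsr hα hfα
    obtain ⟨S, hS, hS'⟩ := exists_roots K hr.ne_zero
    have hlS : ∀ i, l i ∈ S := fun i => (hS' _).2 (hl' i)
    have h1S : (1 : K) ∈ S := (hS' _).2 (one_pow _)
    have e1 := (sum_sq_le B hl hC hlS).trans hCt
    have e2 := card_eq_sum_card_fiberwise (s := univ) (f := l) (t := S) fun i _ => hlS i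
    have e3 : (univ.filter fun i => l i = 1).card = 1 := by
      obtain ⟨v, hv, hv0⟩ := h0
      obtain ⟨i, hi0⟩ : ∃ i, B.repr v i ≠ 0 := by
        by_contra h
        push Not at h
        exact hv0 (B.repr.injective (Finsupp.ext fun i => by simp [h]))
      have e := coord_eigen B hl v i
      rw [hv] at e
      have hi1 : l i = 1 := (mul_left_eq_self₀.1 e.symm).resolve_right hi0
      exact card_eq_one.2 ⟨i, eq_singleton_iff_unique_mem.2 ⟨by simp [hi1], fun j hj =>
        fix_le_one hρ hK hb (mul_ne_zero hr.ne_zero hn) hbn hN (by simp [ht]) hγ hfix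
          ((Commute.refl s).mul_right hsy) (fun v hv => by rw [End.mul_apply, h1 v hv, hv]) B hl
          (mem_filter.1 hj).2 hi1⟩⟩
    rw [← sum_erase_add _ _ h1S, e3] at e1 e2
    rw [card_univ, Fintype.card_fin] at e2
    have e4 := card_erase_add_one h1S
    have e5 := count_arith (e2 ▸ hτ) sq_sum_le_card_mul_sum_sq e1 (e4.trans_le hS) (by omega)
    have e6 : t = 2 := by nlinarith [hr.pos]
    obtain ⟨v, hv, hv0⟩ := h0
    exact ⟨e6, by subst e6; omega, v, hv0, hv⟩
  obtain ⟨c, hc⟩ := hρ.schur (y ^ t) fun g => by rw [pow_comm_rep hy, hβ]; rfl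
  have hc0 : c ≠ 0 := by
    rintro rfl
    have : (y ^ n) ^ t = 0 := by rw [← pow_mul, mul_comm, pow_mul, hc, zero_smul, zero_pow hn]
    simp [hyn] at this
  obtain ⟨d, hd⟩ := IsAlgClosed.exists_pow_nat_eq c⁻¹ (show 0 < t by omega)
  have hNK : ((r * t : ℕ) : K) ≠ 0 := by simp [hrK, ht]
  have hbt : (d • (s * y)) ^ t = s ^ t := by
    rw [smul_pow, hsy.mul_pow, hc, hd, mul_smul_comm, smul_smul, inv_mul_cancel₀ hc0]; simp
  have hbN : (d • (s * y)) ^ (r * t) = 1 := by
    rw [mul_comm r, pow_mul, hbt, ← pow_mul, mul_comm, pow_mul, hsr, one_pow]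
  have hb' : ∀ g, (d • (s * y)) * ρ g = ρ ((α * β) g) * (d • (s * y)) := fun g => by
    rw [smul_mul_assoc, hb, mul_smul_comm]
  have key : ∀ ω : K, ω ^ t = 1 → ∀ v, (d • (s * y)) v = ω • v → s v = v := fun ω hω v hv => by
    have h2 : (s ^ t) v = v := by
      by_cases hv0 : v = 0
      · simp [hv0]
      rw [← hbt, (End.HasEigenvector.pow_apply (f := d • (s * y)) (μ := ω)
        ⟨End.mem_eigenspace_iff.2 hv, hv0⟩ t), hω, one_smul]
    obtain ⟨m, -, hm⟩ := Nat.exists_mul_mod_eq_one_of_coprime hco hr.one_lt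
    have := pow_apply_eq_self h2 m
    rwa [← pow_mul, ← Nat.div_add_mod (t * m) r, pow_add, pow_mul, hsr, one_pow, one_mul, hm,
      pow_one] at this
  have key2 : ∀ ω : K, ω ^ t = 1 → ω ≠ d → ∀ v, (d • (s * y)) v = ω • v → v = 0 :=
    fun ω hω hd v hv => by
      have h2 := key ω hω v hv
      rw [LinearMap.smul_apply, End.mul_apply, h1 v h2, h2] at hv
      by_contra h
      exact hd (smul_left_injective K h hv).symm
  have hp : ∀ ω : K, ω ^ t = 1 → ω ^ (r * t) = 1 := fun ω h => by rw [mul_comm, pow_mul, h, one_pow]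
  have uniq := fun (ω ω' : K) (h : ω ^ t = 1) (h' : ω' ^ t = 1) =>
    hρ.missing_unique hK hcl hb' hNK hbN hγ hfix hD (hp ω h) (hp ω' h')
  haveI : NeZero (t : K) := ⟨ht⟩
  obtain ⟨ζ, hζ⟩ := HasEnoughRootsOfUnity.exists_primitiveRoot K t
  have hζi : ∀ i, (ζ ^ i) ^ t = 1 := fun i => by rw [← pow_mul, mul_comm, pow_mul, hζ.pow_eq_one,
    one_pow]
  have hne : ∀ i j, i < t → j < t → ζ ^ i ≠ d → ζ ^ j ≠ d → i = j := fun i j h2 h3 h4 h5 =>
    hζ.pow_inj h2 h3 (uniq _ _ (hζi i) (hζi j) (key2 _ (hζi i) h4) (key2 _ (hζi j) h5))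
  have hne' : ∀ i j, i < t → j < t → ζ ^ i = d → ζ ^ j = d → i = j := fun i j h2 h3 h4 h5 =>
    hζ.pow_inj h2 h3 (h4.trans h5.symm)
  have e6 : t = 2 := by
    by_contra h
    have h0 : 0 < t := by omega
    have h1 : 1 < t := by omega
    have h2 : 2 < t := by omega
    by_cases a : ζ ^ 0 = d
    · exact absurd (hne 1 2 h1 h2 (fun b => absurd (hne' 0 1 h0 h1 a b) (by omega))
        fun b => absurd (hne' 0 2 h0 h2 a b) (by omega)) (by omega)
    by_cases b : ζ ^ 1 = d
    · exact absurd (hne 0 2 h0 h2 a fun c => absurd (hne' 1 2 h1 h2 b c) (by omega)) (by omega)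
    · exact absurd (hne 0 1 h0 h1 a b) (by omega)
  refine ⟨e6, ?_, ?_⟩
  · obtain ⟨i, h2⟩ : ∃ i, ζ ^ i ≠ d := by
      by_contra h
      push Not at h
      have := hne' 0 1 (by omega) (by omega) (h 0) (h 1)
      omega
    have h3 : ζ ^ i ≠ 0 := pow_ne_zero _ (hζ.ne_zero (by omega))
    rw [(hρ.crit_coprime hK hcl (b := (ζ ^ i)⁻¹ • d • (s * y)) (fun g => by
      rw [smul_mul_assoc, hb', mul_smul_comm (ζ ^ i)⁻¹]) hNK (by
        rw [smul_pow, hbN, inv_pow, hp _ (hζi i), inv_one, one_smul]) hγ hfix fun v hv =>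
      key2 _ (hζi i) h2 v (by
        rw [LinearMap.smul_apply, inv_smul_eq_iff₀ h3] at hv; exact hv)).resolve_left hD, e6,
      mul_comm]
  · by_contra h
    push Not at h
    have h2 : ∀ i v, (d • (s * y)) v = ζ ^ i • v → v = 0 := fun i v hv => by
      by_contra h0
      exact h v h0 (key _ (hζi i) v hv)
    have := hζ.pow_inj (show 0 < t by omega) (show 1 < t by omega)
      (uniq _ _ (hζi 0) (hζi 1) (h2 0) (h2 1))
    omega

end Cfsg.Agent.TUR
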