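import Cfsg.Agent.TUR.G1

/-! Modules with an invariant separating family of linear forms. -/

set_option autoImplicit false
set_option linter.unusedSectionVars false

namespace Cfsg.Agent.TUR

open Subgroup H49 FLAV Module Finset
open H79 (cjAut fixS rep_mul_apply coe_cjAut)
open scoped commutatorElement

universe u v

variable {K : Type*} [Field K] {X : Type u} [Group X] {U : Type v} [AddCommGroup U] [Module K U]

/-- The elements fixing `S` pointwise. -/
def fxS (φ : X →* End K U) (S : Submodule K U) : Subgroup X where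
  carrier := {g | ∀ v ∈ S, φ g v = v}
  one_mem' := fun v _ => by simp
  mul_mem' := fun {a b} ha hb v hv => by rw [rep_mul_apply, hb v hv, ha v hv]
  inv_mem' := fun {a} ha v hv => by rw [← ha v hv, H79.rep_inv_apply, ha v hv]

/-- The elements acting as scalars. -/
def scal (φ : X →* End K U) : Subgroup X where
  carrier := {g | ∃ c : K, φ g = c • 1}
  one_mem' := ⟨1, by simp⟩
  mul_mem' := fun ⟨c, hc⟩ ⟨d, hd⟩ => ⟨c * d, by rw [map_mul, hc, hd, smul_mul_smul_comm, one_mul]⟩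
  inv_mem' := fun {a} ⟨c, hc⟩ => ⟨c⁻¹, by
    have h : c • φ a⁻¹ = 1 := by rw [← mul_smul_one, ← hc, ← map_mul, inv_mul_cancel, map_one]
    by_cases h0 : c = 0
    · rw [← mul_one (φ a⁻¹), ← h, h0]; simp
    · rw [← h, smul_smul, inv_mul_cancel₀ h0, one_smul]⟩

/-- The eigenspace of a linear character. -/
def eig (φ : X →* End K U) {Z : Subgroup X} (l : Z →* K) : Submodule K U where
  carrier := {v | ∀ z : Z, φ z v = l z • v}
  zero_mem' := fun z => by simp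
  add_mem' := fun ha hb z => by rw [map_add, ha z, hb z, smul_add]
  smul_mem' := fun c v hv z => by rw [map_smul, hv z, smul_comm]

/-- The norm of `σ`. -/
def nm (φ : X →* End K U) (σ : X) (r : ℕ) : End K U := ∑ i ∈ range r, φ σ ^ i

/-- An invariant separating family of linear forms. -/
structure Om (φ : X →* End K U) (Ω : Set (Dual K U)) : Prop where
  inv : ∀ g, ∀ ν ∈ Ω, ν ∘ₗ φ g ∈ Ω
  sep : ∀ u, (∀ ν ∈ Ω, ν u = 0) → u = 0

/-- The fixed vectors killed by the forms which are not fixed. -/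
def bad (φ : X →* End K U) (Ω : Set (Dual K U)) (σ : X) : Submodule K U where
  carrier := {u | φ σ u = u ∧ ∀ ν ∈ Ω, ν ∘ₗ φ σ ≠ ν → ν u = 0}
  zero_mem' := ⟨by simp, fun _ _ _ => by simp⟩
  add_mem' := fun ha hb => ⟨by rw [map_add, ha.1, hb.1], fun ν h h' => by
    rw [map_add, ha.2 ν h h', hb.2 ν h h', add_zero]⟩
  smul_mem' := fun c v hv => ⟨by rw [map_smul, hv.1], fun ν h h' => by
    rw [map_smul, hv.2 ν h h', smul_zero]⟩

variable {φ : X →* End K U} {Ω : Set (Dual K U)} {σ g : X} {r : ℕ} {Z H : Subgroup X} {u v : U}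

theorem fix_of_cent (hg : g ∈ 𝒞[σ]) (hu : φ σ u = u) : φ σ (φ g u) = φ g u := by
  rw [← rep_mul_apply, ← mem_cent1.1 hg, rep_mul_apply, hu]

/-- The kernel of the action on the fixed vectors modulo the bad ones. -/
def fx (φ : X →* End K U) (Ω : Set (Dual K U)) (σ : X) : Subgroup X where
  carrier := {g | g ∈ 𝒞[σ] ∧ ∀ u, φ σ u = u → φ g u - u ∈ bad φ Ω σ}
  one_mem' := ⟨one_mem _, fun u _ => by simp⟩
  mul_mem' := fun {a b} ha hb => ⟨mul_mem ha.1 hb.1, fun u hu => by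
    simpa using add_mem (ha.2 _ (fix_of_cent hb.1 hu)) (hb.2 u hu)⟩
  inv_mem' := fun {a} ha => ⟨inv_mem ha.1, fun u hu => by
    simpa [H79.rep_apply_inv] using neg_mem (ha.2 _ (fix_of_cent (inv_mem ha.1) hu))⟩

/-- The stabilizer of a form. -/
def stb (φ : X →* End K U) (ν : Dual K U) : Subgroup X where
  carrier := {g | ν ∘ₗ φ g = ν}
  one_mem' := by ext; simp
  mul_mem' := fun {a b} ha hb => by
    change ν ∘ₗ φ (a * b) = ν
    rw [map_mul, End.mul_eq_comp, ← LinearMap.comp_assoc, ha, hb]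
  inv_mem' := fun {a} ha => LinearMap.ext fun v =>
    (LinearMap.congr_fun ha (φ a⁻¹ v)).symm.trans (congrArg ν (H79.rep_apply_inv φ a v))

theorem mem_stb {ν : Dual K U} : g ∈ stb φ ν ↔ ν ∘ₗ φ g = ν := Iff.rfl

theorem stb_comp {ν : Dual K U} {y : X} : g ∈ stb φ (ν ∘ₗ φ y) ↔ y * g * y⁻¹ ∈ stb φ ν := by
  simp only [mem_stb, LinearMap.ext_iff, LinearMap.comp_apply, rep_mul_apply]
  exact ⟨fun h v => by rw [h, H79.rep_apply_inv], fun h v => by rw [← h (φ y v), H79.rep_inv_apply]⟩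

theorem Om.bad_cent (h : Om φ Ω) (hg : g ∈ 𝒞[σ]) (hu : u ∈ bad φ Ω σ) : φ g u ∈ bad φ Ω σ :=
  ⟨fix_of_cent hg hu.1, fun ν h1 h2 => hu.2 _ (h.inv g ν h1) fun e => h2 (by
    have := stb_comp.1 e
    rwa [mem_cent1.1 hg, mul_inv_cancel_right] at this)⟩

theorem Om.norm_fx (h : Om φ Ω) : 𝒞[σ] ≤ 𝒩(fx φ Ω σ) := le_norm_iff.2 fun c hc g hg =>
  ⟨mul_mem (mul_mem hc hg.1) (inv_mem hc), fun u hu => by
    simpa [H79.rep_apply_inv] using h.bad_cent hc (hg.2 _ (fix_of_cent (inv_mem hc) hu))⟩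

theorem scal_le_center (hφ : Function.Injective φ) : scal φ ≤ center X := fun g ⟨c, hc⟩ =>
  mem_center_iff.2 fun k => hφ (by rw [map_mul, map_mul, hc, mul_smul_one, smul_one_mul])

theorem eq_one_of_scal (hφ : Function.Injective φ) (h : g ∈ scal φ) (hv : v ≠ 0) (e : φ g v = v) :
    g = 1 := by
  obtain ⟨c, hc⟩ := h
  rw [hc] at e
  have : c = 1 := smul_left_injective K hv (e.trans (one_smul K v).symm)
  exact hφ (by rw [hc, this, one_smul, map_one])

theorem norm_fxS {S : Submodule K U} (h : ∀ g ∈ H, ∀ v ∈ S, φ g v ∈ S) : H ≤ 𝒩(fxS φ S) :=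
  le_norm_iff.2 fun a ha g hg v hv => by
    rw [rep_mul_apply, rep_mul_apply, hg _ (h _ (inv_mem ha) v hv), H79.rep_apply_inv]

theorem nm_fix (hσ : σ ^ r = 1) (v : U) : φ σ (nm φ σ r v) = nm φ σ r v := by
  have := mul_geom_sum (φ σ) r
  rw [← map_pow, hσ, map_one, sub_self, sub_mul, one_mul, sub_eq_zero] at this
  exact LinearMap.congr_fun this v

theorem nm_apply (hσ : σ ^ r = 1) (v : U) : nm φ σ r (φ σ v) = nm φ σ r v := by
  have := geom_sum_mul (φ σ) r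
  rw [← map_pow, hσ, map_one, sub_self, mul_sub, mul_one, sub_eq_zero] at this
  exact LinearMap.congr_fun this v

theorem nm_of_fix (hv : φ σ v = v) : nm φ σ r v = (r : K) • v := by
  rw [nm, LinearMap.sum_apply, sum_congr rfl fun i _ => H79.pow_apply_eq_self hv i]
  simp [Nat.cast_smul_eq_nsmul]

theorem nm_eq_sum (v : U) : nm φ σ r v = ∑ i ∈ range r, φ (σ ^ i) v := by
  simp [nm, LinearMap.sum_apply]

/-- The conjugate of a character. -/
def tw (l : Z →* K) (x : 𝒩(Z)) : Z →* K := l.comp (Z.normalizerMonoidHom x⁻¹).toMonoidHom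

theorem eig_tw {l : Z →* K} (hv : v ∈ eig φ l) (x : 𝒩(Z)) : φ x v ∈ eig φ (tw l x) := fun z => by
  have := congrArg (φ x) (hv (Z.normalizerMonoidHom x⁻¹ z))
  rw [map_smul, ← rep_mul_apply] at this
  rw [← rep_mul_apply]
  refine Eq.trans ?_ this
  congr 2
  change _ = (x : X) * ((x : X)⁻¹ * z * (x : X)⁻¹⁻¹)
  group

theorem tw_eq_iff {l : Z →* K} {x : 𝒩(Z)} : tw l x = l ↔ (x : X) ∈ fixS l := by
  rw [← (fixS l).inv_mem_iff]
  exact ⟨fun h => ⟨inv_mem x.2, fun z => DFunLike.congr_fun h z⟩,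
    fun ⟨_, h⟩ => MonoidHom.ext h⟩

theorem eig_fixS {l : Z →* K} (hg : g ∈ fixS l) (hv : v ∈ eig φ l) : φ g v ∈ eig φ l := by
  have := eig_tw hv ⟨g, hg.1⟩
  rwa [tw_eq_iff.2 hg] at this

theorem eig_nm {l : Z →* K} (hσ : σ ∈ fixS l) (hv : v ∈ eig φ l) : nm φ σ r v ∈ eig φ l :=
  nm_eq_sum (φ := φ) v ▸ Submodule.sum_mem _ fun i _ => eig_fixS (pow_mem hσ i) hv

theorem mem_fixS_of_cent {l : Z →* K} (hg : g ∈ 𝒞(Z)) : g ∈ fixS l :=
  ⟨cent_le_norm Z hg, fun z => congrArg l (Subtype.ext (by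
    rw [coe_cjAut, ← hg z z.2, mul_inv_cancel_right]))⟩

open Classical in
theorem eig_sum {ι : Type*} (s : Finset ι) (χ : ι → Z →* K) {w : ι → U}
    (hw : ∀ i, w i ∈ eig φ (χ i)) (h : ∑ i ∈ s, w i = 0) (c : Z →* K) :
    ∑ i ∈ s, (if χ i = c then w i else 0) = 0 := by
  refine (Module.forall_dual_apply_eq_zero_iff K _).1 fun f => ?_
  have := linearIndependent_iff.1 (linearIndependent_monoidHom Z K)
    (∑ i ∈ s, Finsupp.single (χ i) (f (w i))) (by
      funext z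
      have := congrArg (fun v => f (φ z v)) h
      simp only [map_sum, hw _ z, map_smul, map_zero] at this
      simpa [mul_comm] using this)
  have := DFunLike.congr_fun this c
  simpa [Finsupp.single_apply, apply_ite f] using this

variable [Finite X]

theorem pow_not_mem (hr : r.Prime) (hσ : σ ^ r = 1) (h : σ ∉ H) {i : ℕ} (hi : ¬ r ∣ i) :
    σ ^ i ∉ H := fun e => by
  obtain ⟨t, ht⟩ := H79.exists_pow_eq_self hr hσ hi
  exact h (ht ▸ pow_mem e t)

/-- On a free orbit of eigenspaces an element fixing a norm fixes the vector. -/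
theorem free1 {l : Z →* K} (hv : v ∈ eig φ l) (hr : r.Prime) (hσ : σ ^ r = 1) (hi : σ ∈ 𝒩(Z))
    (hl : σ ∉ fixS l) (hg : g ∈ 𝒩(Z)) (hc : g ∈ 𝒞[σ]) (ho : ¬ r ∣ orderOf g)
    (h : φ g (nm φ σ r v) = nm φ σ r v) : φ g v = v := by
  classical
  let s : 𝒩(Z) := ⟨σ, hi⟩
  let t : 𝒩(Z) := ⟨g, hg⟩
  have := eig_sum (φ := φ) ((range r).disjSum (range r))
    (Sum.elim (fun i => tw l (t * s ^ i)) fun i => tw l (s ^ i))
    (w := Sum.elim (fun i => φ (t * s ^ i : 𝒩(Z)) v) fun i => -φ (s ^ i : 𝒩(Z)) v)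
    (by rintro (i | i); exacts [eig_tw hv _, neg_mem (eig_tw hv _)]) (by
      rw [nm_eq_sum, map_sum] at h
      simp only [sum_disjSum, Sum.elim_inl, Sum.elim_inr, sum_neg_distrib]
      rw [add_neg_eq_zero]
      simpa [s, t] using h) l
  have hlt : ∀ i ∈ range r, i ≠ 0 → ¬ r ∣ i := fun i h1 h2 e =>
    h2 (Nat.eq_zero_of_dvd_of_lt e (mem_range.1 h1))
  have h0 : 0 ∈ range r := mem_range.2 hr.pos
  simp only [sum_disjSum, Sum.elim_inl, Sum.elim_inr, tw_eq_iff] at this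
  rw [sum_eq_single_of_mem 0 h0 (fun i h1 h2 => if_neg fun e => ?_), sum_eq_single_of_mem 0 h0
    (fun i h1 h2 => if_neg fun e => ?_)] at this
  · simp only [pow_zero, mul_one, Subgroup.coe_one, one_mem, if_true, map_one, End.one_apply] at this
    split_ifs at this
    · rwa [add_neg_eq_zero] at this
    · rw [zero_add, neg_eq_zero] at this; simp [this]
  · exact pow_not_mem hr hσ hl (hlt i h1 h2) e
  have h3 := pow_mem e (orderOf g)
  change (g * σ ^ i) ^ orderOf g ∈ _ at h3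
  rw [((show Commute g σ from mem_cent1.1 hc).pow_right i).mul_pow, pow_orderOf_eq_one, one_mul,
    ← pow_mul] at h3
  exact pow_not_mem hr hσ hl (hr.not_dvd_mul (hlt i h1 h2) ho) h3

theorem free0 {l : Z →* K} (hv : v ∈ eig φ l) (hr : r.Prime) (hσ : σ ^ r = 1) (hi : σ ∈ 𝒩(Z))
    (hl : σ ∉ fixS l) (h : nm φ σ r v = 0) : v = 0 := by
  classical
  let s : 𝒩(Z) := ⟨σ, hi⟩
  have := eig_sum (φ := φ) (range r) (fun i => tw l (s ^ i))
    (w := fun i => φ (s ^ i : 𝒩(Z)) v) (fun i => eig_tw hv _) (by rw [← h, nm_eq_sum]; rfl) l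
  simp only [tw_eq_iff] at this
  rw [sum_eq_single_of_mem 0 (mem_range.2 hr.pos) fun i h1 h2 => if_neg fun e' => ?_] at this
  · simpa using this
  exact pow_not_mem hr hσ hl (fun e => h2 (Nat.eq_zero_of_dvd_of_lt e (mem_range.1 h1))) e'

/-- A translate of a fixed form is fixed only for the obvious reason. -/
theorem mem_of_stb (hc : Cop r H σ) (hi : σ ∈ 𝒩(H)) {ν : Dual K U} (hν : σ ∈ stb φ ν) {y : X}
    (hy : y ∈ H) (h : σ ∈ stb φ (ν ∘ₗ φ y)) : y ∈ (stb φ ν ⊓ H) ⊔ (H ⊓ 𝒞[σ]) := by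
  obtain ⟨n, hn, e⟩ := hc.lift (L := stb φ ν ⊓ H) inf_le_right hi
    (inv_inf (le_normalizer hν) hi) (inv_mem hy) (mem_inf.2 ⟨by
      rw [inv_inv]; simpa [mul_assoc] using mul_mem (stb_comp.1 h) (inv_mem hν), by
      simpa [mul_assoc] using mul_mem hy (cj_mem hi (inv_mem hy))⟩)
  have := mul_mem (mem_sup_left (T := H ⊓ 𝒞[σ]) hn.1) (mem_sup_right
    (inv_mem (mem_inf.2 ⟨mul_mem (inv_mem hy) hn.2, e⟩)))
  simpa using this

theorem Om.eq_zero (h : Om φ Ω) (hc : Cop r H σ) (hi : σ ∈ 𝒩(H)) (hC : H ⊓ 𝒞[σ] = ⊥)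
    (hK : (Nat.card H : K) ≠ 0) (hu : u ∈ bad φ Ω σ) [Fintype H] (hs : ∑ y : H, φ y u = 0) :
    u = 0 := by
  classical
  refine h.sep u fun ν hν => by_contra fun h0 => ?_
  have h1 : σ ∈ stb φ ν := by_contra fun e => h0 (hu.2 ν hν e)
  have := congrArg ν hs
  rw [map_sum, map_zero, sum_congr rfl (g := fun y : H => if (y : X) ∈ stb φ ν then ν u else 0)
    fun y _ => ?_, ← sum_filter, sum_const, nsmul_eq_mul] at this
  · refine hK ((card_subgroup_dvd_card ((stb φ ν).subgroupOf H)).elim fun c e => ?_)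
    rw [e, Nat.cast_mul, Nat.card_eq_fintype_card, Fintype.card_subtype]
    exact mul_eq_zero_of_left ((mul_eq_zero.1 this).resolve_right h0) _
  split_ifs with h2
  · exact LinearMap.congr_fun h2 u
  · exact hu.2 _ (h.inv y ν hν) fun e => h2 (by
      simpa [hC] using mem_of_stb hc hi h1 y.2 e)

theorem kk_le_kerS {l : Z →* K} (h : σ ∈ fixS l) : kk σ Z ≤ H79.kerS l :=
  (commutator_mono le_rfl (zpowers_le.2 h)).trans (H79.comm_fixS_le l)

theorem fixS_of_kk {l : Z →* K} (hi : σ ∈ 𝒩(Z)) (h : kk σ Z ≤ H79.kerS l) : σ ∈ fixS l :=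
  ⟨hi, fun z => by
    have := H79.coe_mem_kerS.1 (show ((z * (cjAut Z hi z)⁻¹ : Z) : X) ∈ _ from h (by
      simpa [coe_cjAut, commutatorElement_def, mul_assoc] using comm_mem_kk z.2))
    rw [← one_mul (l (cjAut Z hi z)), ← this, ← map_mul, inv_mul_cancel_right]⟩

/-- No nonzero combination of vectors from eigenspaces of moved characters is bad. -/
theorem Om.eq_zero_of_free (h : Om φ Ω) (hc : Cop r Z σ) (hi : σ ∈ 𝒩(Z)) (hab : Z ≤ 𝒞(Z))
    (hK : (Nat.card Z : K) ≠ 0) {l : Z →* K} (hl : σ ∉ fixS l) (hv : v ∈ eig φ l)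
    (hg : g ∈ 𝒩(Z)) (hgc : g ∈ 𝒞[σ]) {c : K} (hu : φ g (nm φ σ r v) - c • nm φ σ r v ∈ bad φ Ω σ) :
    φ g (nm φ σ r v) = c • nm φ σ r v := by
  classical
  haveI := Fintype.ofFinite (kk σ Z)
  have hle := kk_le hi
  have h1 : ∑ y : kk σ Z, φ y v = 0 := by
    have : ∑ y : kk σ Z, (l.comp (inclusion hle)) y = 0 := sum_hom_units_eq_zero _ fun e =>
      hl (fixS_of_kk hi fun y hy => (H79.coe_mem_kerS (g := ⟨y, hle hy⟩)).2
        (DFunLike.congr_fun e ⟨y, hy⟩))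
    refine (sum_congr rfl fun y _ => hv (inclusion hle y)).trans ?_
    rw [← sum_smul]
    exact smul_eq_zero_of_left this v
  have h2 : ∀ x ∈ 𝒩(kk σ Z), ∑ y : kk σ Z, φ y (φ x v) = 0 := fun x hx => by
    rw [← (cjAut _ hx).toEquiv.sum_comp, ← map_zero (φ x), ← h1, map_sum]
    exact sum_congr rfl fun y _ => by
      simp only [← rep_mul_apply]
      exact congrArg (φ · v) (inv_mul_cancel_right _ _)
  refine sub_eq_zero.1 (h.eq_zero (hc.mono hle) (inv_kk σ Z) ?_ (fun e => hK ?_) hu ?_)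
  · have := (coprime_abelian_dp (abelian_iff.2 hab) (zn hi) (hc.copr le_rfl)).2.1
    rw [cent_zpowers] at this
    exact le_bot_iff.1 (this ▸ le_inf (inf_le_inf_right _ hle) inf_le_left)
  · obtain ⟨c, hc⟩ := card_dvd_of_le hle
    rw [hc, Nat.cast_mul, e, zero_mul]
  simp only [nm_eq_sum, map_sub, map_smul, map_sum, sum_sub_distrib, ← smul_sum]
  rw [sum_comm, sum_eq_zero fun i _ => ?_, sum_comm, sum_eq_zero fun i _ =>
    h2 _ (pow_mem (inv_kk σ Z) i), smul_zero, sub_zero]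
  simpa only [rep_mul_apply] using h2 _ (mul_mem (mem_norm_kk hgc hg) (pow_mem (inv_kk σ Z) i))

/-- The faithful action on an invariant subspace. -/
structure Res (φ : X →* End K U) {S : Submodule K U} {Y : Type u} [Group Y] (f : H →* Y)
    (ψ : Y →* End K S) : Prop where
  inj : Function.Injective ψ
  surj : Function.Surjective f
  app : ∀ (h : H) (v : S), (ψ (f h) v : U) = φ h v

theorem exists_res (S : Submodule K U) (hS : ∀ g ∈ H, ∀ v ∈ S, φ g v ∈ S) :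
    ∃ (Y : Type u) (_ : Group Y) (_ : Finite Y) (f : H →* Y) (ψ : Y →* End K S), Res φ f ψ :=
  have h : H79.Inv (φ.comp H.subtype) S := fun g => hS g g.2
  ⟨_, inferInstance, inferInstance, QuotientGroup.mk' _, H79.fth h.res, H79.fth_injective _,
    QuotientGroup.mk'_surjective _, fun _ _ => rfl⟩

namespace Res
variable {S : Submodule K U} {Y : Type u} [Group Y] {f : H →* Y} {ψ : Y →* End K S}
  (h : Res φ f ψ)
include h

theorem eq_one {x : H} : f x = 1 ↔ (x : X) ∈ fxS φ S :=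
  ⟨fun e v hv => by rw [← h.app x ⟨v, hv⟩, e, map_one]; rfl, fun e => h.inj (by
    ext v; rw [h.app, e v v.2, map_one]; rfl)⟩

theorem fix {x : H} {v : S} : ψ (f x) v = v ↔ φ x v = v := by rw [Subtype.ext_iff, h.app]

theorem scal_mem {x : H} {c : K} (e : ∀ v ∈ S, φ x v = c • v) : f x ∈ scal ψ :=
  ⟨c, by ext v; rw [h.app, e v v.2]; rfl⟩

theorem om (hΩ : Om φ Ω) : Om ψ ((· ∘ₗ S.subtype) '' Ω) :=
  ⟨by
    rintro y _ ⟨ν, hν, rfl⟩
    obtain ⟨x, rfl⟩ := h.surj y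
    exact ⟨_, hΩ.inv x ν hν, LinearMap.ext fun v => congrArg ν (h.app x v).symm⟩,
  fun v e => Subtype.ext (hΩ.sep v fun ν hν => e _ ⟨ν, hν, rfl⟩)⟩

theorem bad_mem {s : H} {v : S} (hv : (v : U) ∈ bad φ Ω s) :
    v ∈ bad ψ ((· ∘ₗ S.subtype) '' Ω) (f s) :=
  ⟨h.fix.2 hv.1, by
    rintro _ ⟨ν, hν, rfl⟩ e
    exact hv.2 ν hν fun e' => e (LinearMap.ext fun w =>
      (congrArg ν (h.app s w)).trans (LinearMap.congr_fun e' w))⟩

theorem fx_mem {s x : H} (hx : (x : X) ∈ fx φ Ω s) : f x ∈ fx ψ ((· ∘ₗ S.subtype) '' Ω) (f s) :=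
  ⟨im_cent1 f hx.1, fun v hv => h.bad_mem (by
    rw [Submodule.coe_sub, h.app]; exact hx.2 _ (h.fix.1 hv))⟩

end Res

end Cfsg.Agent.TUR
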