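import Cfsg.Agent.TUR.C1
import Cfsg.Agent.TUR.O1
import Cfsg.Agent.H76.Ord3

/-! Elements fixing the fixed space of `σ` and normalizing a group of class two. -/

set_option autoImplicit false
set_option linter.unusedSectionVars false

namespace Cfsg.Agent.TUR

open Subgroup H49 H44 FLAV Module
open H79 (cjAut rad Irr coe_cjAut)
open scoped commutatorElement

universe u v

variable {K : Type*} [Field K] {X : Type u} [Group X] [Finite X] {U : Type v} [AddCommGroup U]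
  [Module K U] {φ : X →* End K U} {σ g x : X} {q r : ℕ} {M P Q : Subgroup X}

theorem perp (h : ⁅P, P⁆ ≤ center X) (τ : X) : kk τ P ≤ 𝒞(P ⊓ 𝒞[τ]) := by
  apply commutator_eq_bot_iff.1
  apply H50.three_sub
  · rw [commutator_comm (zpowers τ), show ⁅P ⊓ 𝒞[τ], zpowers τ⁆ = ⊥ from kk_eq_bot.2 inf_le_right,
      commutator_bot_left]
  · exact commutator_eq_bot_iff.2 ((commutator_mono inf_le_left le_rfl).trans
      (h.trans (center_le_cent _)))

theorem exists_pow_prime {S : Subgroup X} (h : g ∉ S) :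
    ∃ m l : ℕ, l.Prime ∧ g ^ m ∉ S ∧ (g ^ m) ^ l ∈ S := by
  classical
  have hex : ∃ n, 0 < n ∧ g ^ n ∈ S := ⟨orderOf g, orderOf_pos g, by simp⟩
  obtain ⟨h0, h1⟩ := Nat.find_spec hex
  have h2 : Nat.find hex ≠ 1 := fun e => h (by simpa [e] using h1)
  obtain ⟨m, hm⟩ := Nat.minFac_dvd (Nat.find hex)
  have hp := Nat.minFac_prime h2
  have h3 : 0 < m := Nat.pos_of_ne_zero fun e => by rw [e] at hm; omega
  exact ⟨m, _, hp, fun e => Nat.find_min hex (by have := hp.two_le; nlinarith) ⟨h3, e⟩,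
    by rwa [← pow_mul, mul_comm, ← hm]⟩

theorem dvd_orderOf_of_pow {S : Subgroup X} {l : ℕ} (hl : l.Prime) (h : g ∉ S) (h' : g ^ l ∈ S) :
    l ∣ orderOf g := by
  by_contra e
  obtain ⟨t, ht⟩ := exists_pow_eq_self_of_coprime (x := g) (n := l)
    ((Nat.Prime.coprime_iff_not_dvd hl).2 e)
  exact h (ht ▸ pow_mem h' t)

/-- A `q`-group `Q = [Q, σ]` whose derived group acts by scalars. -/
structure SC (φ : X →* End K U) (q r : ℕ) (Q : Subgroup X) (σ : X) : Prop where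
  inj : Function.Injective φ
  pq : q.Prime
  qK : (q : K) ≠ 0
  pi : IsPi {q} Q
  cop : Cop r Q σ
  rK : (r : K) ≠ 0
  inv : σ ∈ 𝒩(Q)
  der : ⁅Q, Q⁆ ≤ scal φ
  cen : Q ⊓ 𝒞[σ] ≤ scal φ

theorem mem_center_of_mod {Z : Subgroup X} (hZ : Z ≤ center X) (hZ' : Q ⊓ center X ≤ Z) {τ : X}
    (hτ : τ ∈ 𝒩(Q)) (hc : (orderOf τ).Coprime (Nat.card Z)) (h : Q ⊓ 𝒞[τ] ≤ Z) (hx : x ∈ Q)
    (e : τ ∈ (𝒞[QuotientGroup.mk' (center X) x]).comap (QuotientGroup.mk' (center X))) :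
    x ∈ Z := by
  obtain ⟨z, hz, h1⟩ := H79.lift_cent1 hτ (norm_of_cent (cent_symm (hZ.trans (center_le_cent ⊤)))
    (mem_top τ)) hc hx (hZ' (mem_inf.2 ⟨mul_mem (inv_mem hx) (cj_mem hτ hx), by
      rw [← QuotientGroup.eq_one_iff]
      have := mem_cent1.1 (mem_comap.1 e)
      simp only [QuotientGroup.mk'_apply] at this
      simp [this]⟩))
  exact (Z.mul_mem_cancel_right hz.1).1 (h ⟨mul_mem hx hz.2, h1⟩)

variable [IsAlgClosed K] [FiniteDimensional K U] [Nontrivial U]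

namespace SC
variable (h : SC φ q r Q σ)
include h

theorem der' : ⁅Q, Q⁆ ≤ center X := h.der.trans (scal_le_center h.inj)

theorem card_ne {R : Subgroup X} (hR : R ≤ Q) : (Nat.card R : K) ≠ 0 := by
  obtain ⟨k, hk⟩ := (h.pi.of_le hR).exists_card_eq_pow h.pq
  rw [hk, Nat.cast_pow]
  exact pow_ne_zero _ h.qK

theorem elt (hZ : Q ⊓ 𝒞(Q) ≤ scal φ) (hg : g ∈ 𝒩(Q)) (hc : g ∈ 𝒞[σ])
    (hf : ∀ u, φ σ u = u → φ g u = u) (hq : IsPiElt {q}ᶜ g) (ho : ¬ r ∣ orderOf g) {l k : ℕ}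
    (hl : l.Prime) (h1 : g ^ l ^ (k + 1) ∈ 𝒞(Q)) (h2 : g ^ l ^ k ∉ 𝒞(Q)) :
    l ^ (k + 1) = 2 ∧ r ≠ 2 ∧ (∃ u ≠ 0, φ σ u = u) ∧
      ∃ D, D + 1 = 2 * r ∧ (𝒞[g ^ l ^ k]).relIndex Q = D ^ 2 := by
  have hr := h.cop.pr
  have hlr : l ≠ r := fun e => ho (e ▸ (dvd_orderOf_of_pow hl h2 (by rwa [← pow_mul])).trans
    (orderOf_pow_dvd _))
  set y := g ^ l ^ k with hy
  set Z := Q ⊓ 𝒞(Q)
  have hZc : Z ≤ center X := hZ.trans (scal_le_center h.inj)
  have nZ : ∀ x, x ∈ 𝒩(Z) := fun x =>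
    norm_of_cent (cent_symm (hZc.trans (center_le_cent ⊤))) (mem_top x)
  have hyQ : y ∈ 𝒩(Q) := pow_mem hg _
  have hco : ∀ R ≤ Q, (orderOf y).Coprime (Nat.card R) := fun R hR =>
    IsPiNat.coprime' (hq.pow _) (h.pi.of_le hR)
  have hco' : (Nat.card (zpowers y)).Coprime (Nat.card Q) := by
    rw [Nat.card_zpowers]; exact hco Q le_rfl
  have hP := coprime_isProd_comm_cent (zn hyQ) hco' (.inl (solv_zp y))
  rw [cent_zpowers] at hP
  set R := kk y Q ⊔ Z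
  have hRQ : R ≤ Q := sup_le (kk_le hyQ) inf_le_left
  have hRC : R ≤ 𝒞(Q ⊓ 𝒞[y]) := sup_le (perp h.der' y) (inf_le_right.trans (cent_anti inf_le_left))
  have hcen : ∀ x ∈ R, x ∈ 𝒞(kk y Q) → x ∈ Z := fun x hx e => ⟨hRQ hx, by
    rw [← hP.sup_eq, cent_sup]; exact ⟨e, hRC hx⟩⟩
  have hRy : R ⊓ 𝒞[y] ≤ Z := fun x hx => hcen x hx.1
    (cent_symm (perp h.der' y) ⟨hRQ hx.1, hx.2⟩)
  have nR : ∀ x ∈ 𝒩(Q), Commute x y → x ∈ 𝒩(R) := fun x h3 h4 =>
    inv_sup (mem_norm_kk (mem_cent1.2 h4.eq) h3) (nZ x)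
  have hgσ : Commute σ g := (mem_cent1.1 hc).symm
  have hσR := nR σ h.inv (hgσ.pow_right _)
  have hgR := nR g hg ((Commute.refl g).pow_right _)
  have haR := mul_mem hσR hgR
  obtain ⟨W, hW, -, hW0, hWi⟩ := (H79.inv_top (φ.comp R.subtype)).exists_irr top_ne_bot
  haveI : Nontrivial W := Submodule.nontrivial_iff_ne_bot.2 hW0
  haveI := Fintype.ofFinite R
  have hK : (Fintype.card R : K) ≠ 0 := Nat.card_eq_fintype_card (α := R) ▸ h.card_ne hRQ
  obtain ⟨w, hw⟩ := exists_ne (0 : W)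
  have hw' : (w : U) ≠ 0 := fun e => hw (Subtype.ext e)
  have hZr : ∀ x : R, x ∈ rad hW.res ↔ (x : X) ∈ Z := fun x => ⟨fun e => hcen x x.2 fun c hc =>
    (commutatorElement_eq_one_iff_mul_comm.1 (eq_one_of_scal h.inj
      (h.der (commutator_mem_commutator (hRQ x.2) (kk_le hyQ hc))) hw'
      (congrArg Subtype.val (LinearMap.congr_fun
        (H79.mem_rad_iff_comm.1 e ⟨c, mem_sup_left hc⟩) w)))).symm,
    fun e => (hZ e).elim fun c hc => H79.mem_rad_of_eq_smul (hW.res_eq_smul hc)⟩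
  have hinj : Function.Injective hW.res := (injective_iff_map_eq_one _).2 fun x e =>
    Subtype.ext (eq_one_of_scal h.inj (hZ ((hZr x).1 (H79.mem_rad_of_eq_smul (c := 1)
      (by rw [e, one_smul])))) hw' (congrArg Subtype.val (LinearMap.congr_fun e w)))
  have hcl : ∀ a b : R, ⁅a, b⁆ ∈ rad hW.res := fun a b => (hZr _).2 (by
    have := commutator_mem_commutator (hRQ a.2) (hRQ b.2)
    exact ⟨der_le this, center_le_cent Q (h.der' this)⟩)
  obtain ⟨f, b, hfi, hf1, hf2, hb⟩ := hWi.exists_ext (φ.comp R.subtype) (f₀ := W.subtype)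
    (fun e => hW0 (by rw [← W.range_subtype, e, LinearMap.range_zero])) (fun _ _ => rfl)
    (hWi.mem_isoStab_of_rad hK hcl (β := cjAut R haR) fun x hx => congrArg hW.res (Subtype.ext (by
      rw [coe_cjAut, mem_center_iff.1 (hZc ((hZr x).1 hx)), mul_inv_cancel_right])))
    (H79.rep_cjAut φ haR)
  have hfp : ∀ i v, f ((b ^ i) v) = φ ((σ * g) ^ i) (f v) := fun i v => by
    induction i with
    | zero => simp
    | succ i ih => rw [pow_succ', pow_succ', End.mul_apply, hf2, ih, ← H79.rep_mul_apply]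
  obtain ⟨i, hi⟩ : ∃ i : ℕ, (σ * g) ^ i = σ := by
    obtain ⟨t, ht⟩ := H79.exists_pow_eq_self hr h.cop.pow ho
    exact ⟨orderOf g * t, by rw [pow_mul, hgσ.mul_pow, pow_orderOf_eq_one, mul_one, ht]⟩
  obtain ⟨j, hj⟩ : ∃ j : ℕ, (σ * g) ^ j = g := mem_powers_iff_mem_zpowers.2 (by
    have := mul_mem (inv_mem (npow_mem_zpowers (σ * g) i)) (mem_zpowers (σ * g))
    rwa [hi, inv_mul_cancel_left] at this)
  have hα : ∀ {x : X} (hx : x ∈ 𝒩(R)) {n : ℕ}, (σ * g) ^ n = x → ∀ a, b ^ n * hW.res a =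
      hW.res (cjAut R hx a) * b ^ n := fun hx n e a => by
    rw [H79.pow_comm_rep hb, H79.cjAut_pow]; subst e; rfl
  let T : X → Subgroup X := fun x =>
    (𝒞[QuotientGroup.mk' (center X) x]).comap (QuotientGroup.mk' (center X))
  have hT : ∀ {τ : X} (hτ : τ ∈ 𝒩(R)) (x : R), x⁻¹ * cjAut R hτ x ∈ rad hW.res → τ ∈ T x :=
    fun hτ x e => mem_comap.2 (mem_cent1.2 (by
      have := (QuotientGroup.eq_one_iff _).2 (hZc ((hZr _).1 e))
      simp only [coe_mul, coe_inv, coe_cjAut, QuotientGroup.mk_mul, QuotientGroup.mk_inv] at this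
      rw [inv_mul_eq_one, eq_mul_inv_iff_mul_eq] at this
      exact this.symm))
  have hTσ : ∀ x : R, σ ∈ T x → x ∈ rad hW.res := fun x e => (hZr x).2
    (mem_center_of_mod hZc (fun z hz => ⟨hz.1, center_le_cent Q hz.2⟩) h.inv (by
      rw [← Nat.card_zpowers]; exact h.cop.copr inf_le_left)
      (fun z hz => ⟨hz.1, center_le_cent Q (scal_le_center h.inj (h.cen hz))⟩) (hRQ x.2) e)
  have hlt : ∀ {i : ℕ}, 0 < i → i < r → ¬ r ∣ i := fun h0 h1 e => absurd (Nat.le_of_dvd h0 e) h1.not_ge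
  have hD : finrank K W ≠ 1 := fun e => h2 (by
    have := hWi.index_rad hK hcl
    rw [e, one_pow, index_eq_one] at this
    exact coprime_cent_of_stable (zn hyQ) hco' (.inl (solv_zp y)) (fun x hx => center_le_cent _
      (hZc ((hZr ⟨x, mem_sup_left hx⟩).1 (this ▸ mem_top _)))) (mem_zpowers y))
  obtain ⟨e1, e2, v, hv, e3⟩ := count hWi hinj h.pq ((h.pi.of_le hRQ).isPGroup h.pq) hK hcl hD
    (hα hσR hi) (hα hgR hj) hr h.rK (LinearMap.ext fun v => hfi (by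
      rw [← pow_mul, hfp, pow_mul, hi, h.cop.pow, map_one]; rfl))
    (H79.cjAut_pow_eq_one hσR h.cop.pow) (Commute.pow_pow_self b i j) (by
      rw [Commute, SemiconjBy, H79.cjAut_mul, H79.cjAut_mul]; simp only [hgσ.eq])
    (orderOf_pos g).ne' (LinearMap.ext fun v => hfi (by
      rw [← pow_mul, hfp, pow_mul, hj, pow_orderOf_eq_one, map_one]; rfl)) hl hlr (k := k) (by
      rw [H79.cjAut_pow]; ext a; rw [coe_cjAut, ← h1 a (hRQ a.2), mul_inv_cancel_right]; rfl)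
    (fun x i h0 hi e => hTσ x (by_contra fun e' => pow_not_mem hr h.cop.pow e' (hlt h0 hi)
      (hT _ x (H79.cjAut_pow hσR i ▸ e))))
    (fun x i h0 hi e => by
      rw [H79.cjAut_mul, H79.cjAut_pow] at e
      have e1 := hT _ x e
      have e2 : g ^ l ^ (k + 1) ∈ T x := mem_comap.2 (map_mem_cent1 _ (cent_le_cent1 (hRQ x.2) h1))
      by_cases hri : r ∣ i
      · obtain ⟨i, rfl⟩ := hri
        rw [hgσ.mul_pow, pow_mul, h.cop.pow, one_pow, one_mul] at e1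
        have e3 : g ^ i ∈ T x := by
          obtain ⟨t, ht⟩ := exists_pow_eq_self_of_coprime (x := g) (n := r)
            ((Nat.Prime.coprime_iff_not_dvd hr).2 ho)
          have := pow_mem e1 t
          rwa [pow_mul, pow_right_comm, ht] at this
        obtain ⟨m, hm, -, e4⟩ := H79.pow_mem_of_pow_mem_lt hl (Nat.pos_of_mul_pos_left h0)
          (Nat.lt_of_mul_lt_mul_left hi) e3 e2
        exact (hZr x).2 (mem_center_of_mod (Q := R) hZc (fun z hz => ⟨hRQ hz.1,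
          center_le_cent Q hz.2⟩) (pow_mem hgR _) (hco Z inf_le_left) hRy x.2
          (H79.pow_pow_mem_of_le hm e4))
      · refine hTσ x (by_contra fun e' => pow_not_mem hr h.cop.pow e' (hr.not_dvd_mul hri ho) ?_)
        have := pow_mem e1 (orderOf g)
        rwa [hgσ.mul_pow, (hgσ.pow_pow i i).mul_pow, pow_right_comm g, pow_orderOf_eq_one, one_pow,
          mul_one, ← pow_mul] at this)
    (fun v e => hfi (by rw [hfp, hj]; exact hf _ (by rw [← hi, ← hfp, e])))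
  have hl2 : l = 2 := (Nat.prime_dvd_prime_iff_eq hl Nat.prime_two).1
    (e1 ▸ dvd_pow_self l (by omega))
  refine ⟨e1, fun e => hlr (hl2.trans e.symm), ⟨f v, fun e => hv (hfi (e.trans (map_zero f).symm)),
    by rw [← hi, ← hfp, e3]⟩, _, e2, ?_⟩
  have hP' : IsProd R (Q ⊓ 𝒞[y]) Q := ⟨hRQ, inf_le_left, fun m hm =>
    let ⟨a, ha, b, hb, e⟩ := hP.2.2 m hm; ⟨a, mem_sup_left ha, b, hb, e⟩⟩
  rw [← hWi.index_rad hK hcl, ← inf_relIndex_left, ← hP'.relIndex_eq, relIndex]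
  congr 1
  ext x
  rw [mem_subgroupOf, hZr]
  exact ⟨fun e => hRy ⟨x.2, e.2⟩, fun e => ⟨e.1, center_le_cent1 y (hZc e)⟩⟩

theorem cent_of_nofix (hZ : Q ⊓ 𝒞(Q) ≤ scal φ) (h0 : ∀ u, φ σ u = u → u = 0) (hg : g ∈ 𝒩(Q))
    (hc : g ∈ 𝒞[σ]) (hq : IsPiElt {q}ᶜ g) (ho : ¬ r ∣ orderOf g) : g ∈ 𝒞(Q) := by
  by_contra e
  obtain ⟨m, l, hl, h1, h2⟩ := exists_pow_prime e
  obtain ⟨-, -, ⟨u, hu, e⟩, -⟩ := h.elt hZ (pow_mem hg m) (pow_mem hc m)
    (fun u hu => by simp [h0 u hu]) (hq.pow m) (fun e => ho (e.trans (orderOf_pow_dvd m))) hl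
    (k := 0) (by simpa using h2) (by simpa using h1)
  exact hu (h0 u e)

end SC

end Cfsg.Agent.TUR
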