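import Cfsg.Agent.TUR.H1

/-! Groups fixing the fixed space of `σ` and normalizing a group of class two. -/

set_option autoImplicit false
set_option linter.unusedSectionVars false

namespace Cfsg.Agent.TUR

open Subgroup H49 H44 FLAV Module
open H79 (cjAut fixS rad Irr coe_cjAut)
open scoped commutatorElement

universe u v

variable {K : Type*} [Field K] {X : Type u} [Group X] [Finite X] {U : Type v} [AddCommGroup U]
  [Module K U] {φ : X →* End K U} {σ g x : X} {q r : ℕ} {M P Q : Subgroup X}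

theorem aut_eq_one {a : 𝒩(Q)} : Q.normalizerMonoidHom a = 1 ↔ (a : X) ∈ 𝒞(Q) := by
  rw [← MonoidHom.mem_ker, normalizerMonoidHom_ker, mem_subgroupOf]

/-- The formula of Brauer and Wielandt for elements inducing a four-group. -/
theorem wielandt (ho : Odd (Nat.card Q)) (hs : Group.IsSolvable Q) {a b : 𝒩(Q)}
    (ha : orderOf (Q.normalizerMonoidHom a) = 2) (hb : orderOf (Q.normalizerMonoidHom b) = 2)
    (hab : orderOf (Q.normalizerMonoidHom (a * b)) = 2) :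
    Nat.card Q * Nat.card ↥(𝒞[(a : X)] ⊓ 𝒞[(b : X)] ⊓ Q) ^ 2 = Nat.card ↥(𝒞[(a : X)] ⊓ Q) *
      Nat.card ↥(𝒞[(b : X)] ⊓ Q) * Nat.card ↥(𝒞[(a : X) * b] ⊓ Q) := by
  obtain ⟨Y, _, _, i, j, hi, hj, -, h1, -⟩ := H79.exists_amb (MonoidHom.id (MulAut Q))
  set θ := Q.normalizerMonoidHom
  have hn : ∀ c, j c ∈ 𝒩(i.range) := fun c => inv_of_forall (by
    rintro _ ⟨x, rfl⟩; exact ⟨_, (h1 c x).symm⟩)
  have hm : ∀ (c : 𝒩(Q)) (x : Q), i x ∈ 𝒞[j (θ c)] ↔ (x : X) ∈ 𝒞[(c : X)] := fun c x => by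
    rw [mem_cent1, mem_cent1, eq_comm, ← mul_inv_eq_iff_eq_mul, h1, hi.eq_iff, Subtype.ext_iff,
      eq_comm (a := (x : X) * c), ← mul_inv_eq_iff_eq_mul]
    rfl
  have hc : ∀ (A : Subgroup Y) (B : Subgroup X), (∀ x : Q, i x ∈ A ↔ (x : X) ∈ B) →
      Nat.card ↥(i.range ⊓ A) = Nat.card ↥(B ⊓ Q) := fun A B h => by
    rw [← map_comap_eq, card_map_of_injective hi, ← card_subgroupOf]
    exact congrArg (fun S : Subgroup Q => Nat.card S) (Subgroup.ext h)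
  have sq : ∀ c : MulAut Q, orderOf c = 2 → c⁻¹ = c := fun c h =>
    inv_eq_of_mul_eq_one_right (by rw [← pow_two, ← h, pow_orderOf_eq_one])
  have hQ : Nat.card i.range = Nat.card Q := (Nat.card_congr (MonoidHom.ofInjective hi).toEquiv).symm
  rw [map_mul] at hab
  have := H76.four_wielandt (a := j (θ a)) (b := j (θ b)) (by rw [orderOf_injective j hj, ha])
    (by rw [orderOf_injective j hj, hb]) (by
      rw [← map_mul, ← map_mul j, ← sq _ hab, mul_inv_rev, sq _ ha, sq _ hb]) (fun e => by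
      rw [hj e, ← pow_two, ← hb, pow_orderOf_eq_one, orderOf_one] at hab; omega) (hn _) (hn _)
    (hQ ▸ ho) (solvable_of_surjective i.rangeRestrict_surjective)
  rwa [hQ, ← map_mul, ← map_mul, hc _ _ (hm a), hc _ _ (hm b), hc _ _ (hm (a * b)),
    hc _ (𝒞[(a : X)] ⊓ 𝒞[(b : X)]) fun x => by rw [mem_inf, mem_inf, hm, hm]] at this

variable [IsAlgClosed K] [FiniteDimensional K U] [Nontrivial U]

namespace SC
variable (h : SC φ q r Q σ)
include h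

theorem nil_cent (hZ : Q ⊓ 𝒞(Q) ≤ scal φ) (hM : M ≤ 𝒩(Q)) (hc : M ≤ 𝒞[σ])
    (hs : Group.IsSolvable M) (hr : ¬ r ∣ Nat.card M)
    (hf : ∀ g ∈ nilRes M, ∀ u, φ σ u = u → φ g u = u) (hx : x ∈ nilRes M)
    (hq : IsPiElt {q}ᶜ x) : x ∈ 𝒞(Q) := by
  by_contra hxQ
  set θ := Q.normalizerMonoidHom
  have hl : morphim θ (nilRes M) = nilRes (morphim θ M) := im_lns θ hM 1
  have hx' := hM (nilRes_le M hx)
  obtain ⟨t, T, N, E, htq, hT⟩ := exists_sel (p := q) (j := 0) (σ := 1) (im_solv θ hs)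
    ⟨h.cop.pr, one_pow r, fun e => hr (e.trans (im_card_dvd θ hM))⟩ (one_mem _) fun e =>
      hxQ (aut_eq_one.1 ((e.elt (hl.le (im_mem θ (x := ⟨x, hx'⟩) hx))).eq_one
        (piElt_map θ (x := ⟨x, hx'⟩) hq)))
  have hTl : T ≤ morphim θ (nilRes M) := hl ▸ le_nilRes
    (hT.comm.ge.trans (commutator_mono le_rfl (hT.EN.trans hT.lt.le))) hT.le
  have key : ∀ c ∈ T, c ≠ 1 → orderOf c = 2 ∧ r ≠ 2 ∧ t = 2 := fun c hcT h1 => by
    obtain ⟨a, ha, rfl, hat⟩ := im_lift θ (hTl hcT) (hT.pi.elt hcT)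
    obtain ⟨n, hn⟩ := (isPiNat_singleton hT.pr (orderOf_pos _).ne').1 (hT.pi.elt hcT)
    obtain ⟨k, rfl⟩ : ∃ k, n = k + 1 := Nat.exists_eq_succ_of_ne_zero fun e =>
      h1 (orderOf_eq_one_iff.1 (by simpa [e] using hn))
    have haM := nilRes_le M ha
    obtain ⟨e1, e2, -⟩ := h.elt hZ a.2 (hc haM) (hf a ha) (hat.mono fun s hs e => htq (hs.symm.trans e))
      (fun e => hr (e.trans (orderOf_dvd_natCard M haM))) hT.pr (k := k)
      (aut_eq_one (a := a ^ t ^ (k + 1)).1 (by rw [map_pow, ← hn, pow_orderOf_eq_one]))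
      fun e => pow_ne_one_of_lt_orderOf (pow_pos hT.pr.pos k).ne' (by
        rw [hn]; exact Nat.pow_lt_pow_right hT.pr.one_lt (by omega))
        ((map_pow θ a _).symm.trans (aut_eq_one.2 e))
    exact ⟨hn.trans e1, e2, (Nat.prime_dvd_prime_iff_eq hT.pr Nat.prime_two).1
      (e1 ▸ dvd_pow_self t (by omega))⟩
  have key2 : ∀ a : 𝒩(Q), (a : X) ∈ nilRes M → θ a ∈ T → θ a ≠ 1 →
      (𝒞[(a : X)]).relIndex Q = (2 * r - 1) ^ 2 := fun a ha hcT h1 => by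
    obtain ⟨b, hb, e, hbt⟩ := im_lift θ (hTl hcT) (hT.pi.elt hcT)
    have hbM := nilRes_le M hb
    obtain ⟨e1, -, rfl⟩ := key _ hcT h1
    obtain ⟨-, -, -, D, e2, e3⟩ := h.elt hZ b.2 (hc hbM) (hf b hb)
      (hbt.mono fun s hs e => htq (hs.symm.trans e))
      (fun e => hr (e.trans (orderOf_dvd_natCard M hbM))) hT.pr (k := 0)
      (aut_eq_one (a := b ^ 2 ^ (0 + 1)).1 (by rw [map_pow, e, ← e1]; simp))
      fun e' => h1 (e ▸ aut_eq_one.2 (by simpa using e'))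
    rw [← e2, Nat.add_sub_cancel, ← e3, pow_zero, pow_one, relIndex, relIndex]
    congr 1
    ext z
    have := congrArg (fun c : MulAut Q => (c z : X)) e
    change (b : X) * z * (b : X)⁻¹ = a * z * (a : X)⁻¹ at this
    simp only [mem_subgroupOf, mem_cent1, eq_comm (a := (z : X) * _), ← mul_inv_eq_iff_eq_mul, this]
  obtain ⟨c, hcT, hc1⟩ := ne_bot_iff_exists.1 hT.ne
  obtain ⟨d, hdT, hd1, hdc⟩ : ∃ d ∈ T, d ≠ 1 ∧ d ≠ c := by
    by_contra hne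
    push Not at hne
    refine hT.ne (hT.comm.symm.trans (commutator_eq_bot_iff.2 (le_cent_iff.2 fun y hy e he => ?_)))
    by_cases h1 : y = 1
    · simp [h1]
    have := conj_mem_of_norm hT.nP (hT.EN he) hy
    rw [← mul_inv_eq_iff_eq_mul, hne _ this (by simpa [mul_inv_eq_one] using h1), hne y hy h1]
  obtain ⟨a, ha, rfl⟩ := hTl hcT
  obtain ⟨b, hb, rfl⟩ := hTl hdT
  obtain ⟨o1, hr2, rfl⟩ := key _ hcT hc1
  have hab : θ (a * b) ∈ T := map_mul θ a b ▸ mul_mem hcT hdT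
  have hab1 : θ (a * b) ≠ 1 := fun e => hdc (by
    rw [map_mul] at e
    rw [← inv_eq_of_mul_eq_one_right e]
    exact inv_eq_of_mul_eq_one_right (by rw [← pow_two, ← o1, pow_orderOf_eq_one]))
  have w := wielandt (Nat.odd_iff.2 (Nat.two_dvd_ne_zero.1 ((isPi_compl_singleton Nat.prime_two).1
    (h.pi.compl_singleton_of_ne htq.symm)))) (solvable_of_nilpotent h.pi.nilpotent) o1
    (key _ hdT hd1).1 (key _ hab hab1).1
  have c1 := card_inf_mul_relIndex 𝒞[(a : X)] Q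
  have c2 := card_inf_mul_relIndex 𝒞[(b : X)] Q
  have c3 := card_inf_mul_relIndex 𝒞[(a : X) * b] Q
  rw [key2 a ha hcT hc1] at c1
  rw [key2 b hb hdT hd1] at c2
  rw [show (𝒞[(a : X) * b]).relIndex Q = _ from key2 (a * b) (mul_mem ha hb) hab hab1] at c3
  have hle : 𝒞[(a : X)] ⊓ 𝒞[(b : X)] ⊓ Q ≤ 𝒞[(a : X)] ⊓ Q := inf_le_inf_right Q inf_le_left
  have c4 := card_mul_relIndex hle
  have ia := inv_cent1 (hc (nilRes_le M ha))
  have c5 := H79.pow_dvd_relIndex_sub (n := 0) h.cop.pr (inv_inf ia h.inv)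
    (inv_inf (inv_inf ia (inv_cent1 (hc (nilRes_le M hb)))) h.inv) hle (by simpa using h.cop.pow)
    (fun z hz => by
      have := scal_le_center h.inj (h.cen ⟨hz.1.2, by simpa using hz.2⟩)
      exact ⟨⟨hz.1.1, center_le_cent1 _ this⟩, hz.1.2⟩)
    ((Nat.Prime.coprime_iff_not_dvd h.cop.pr).2 (h.cop.mono inf_le_right).cop).symm
  change r ^ (0 + 1) ∣ (𝒞[(a : X)] ⊓ 𝒞[(b : X)] ⊓ Q).relIndex (𝒞[(a : X)] ⊓ Q) - 1 at c5
  have p0 := card_pos' (𝒞[(a : X)] ⊓ 𝒞[(b : X)] ⊓ Q)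
  have p1 := card_pos' (𝒞[(a : X)] ⊓ Q)
  have p2 := h.cop.pr.two_le
  generalize (𝒞[(a : X)] ⊓ 𝒞[(b : X)] ⊓ Q).relIndex (𝒞[(a : X)] ⊓ Q) = e at *
  generalize Nat.card ↥(𝒞[(a : X)] ⊓ 𝒞[(b : X)] ⊓ Q) = n0 at *
  generalize Nat.card ↥(𝒞[(a : X)] ⊓ Q) = n1 at *
  generalize Nat.card ↥(𝒞[(b : X)] ⊓ Q) = n2 at *
  generalize Nat.card ↥(𝒞[(a : X) * b] ⊓ Q) = n3 at *
  have hm : 0 < (2 * r - 1) ^ 2 := pow_pos (by omega) 2
  obtain rfl : n1 = n2 := Nat.eq_of_mul_eq_mul_right hm (c1.trans c2.symm)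
  obtain rfl : n1 = n3 := Nat.eq_of_mul_eq_mul_right hm (c1.trans c3.symm)
  have e1 : (n0 * (2 * r - 1)) ^ 2 = (n0 * e) ^ 2 := Nat.eq_of_mul_eq_mul_left p1 (by
    rw [c4, mul_pow, mul_comm (n0 ^ 2), ← mul_assoc, c1, w]; ring)
  have e2 := Nat.eq_of_mul_eq_mul_left p0 (Nat.pow_left_injective two_ne_zero e1)
  rw [← e2, zero_add, pow_one] at c5
  have e3 : r ∣ 2 := (Nat.dvd_add_right c5).1 ⟨2, by omega⟩
  exact hr2 ((Nat.prime_dvd_prime_iff_eq h.cop.pr Nat.prime_two).1 e3)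

/-- An element of `Q` fixing a nonzero invariant subspace pointwise is central. -/
theorem cent_of_fxS {S : Submodule K U} (hS : ∀ g ∈ Q, ∀ v ∈ S, φ g v ∈ S) (h0 : S ≠ ⊥)
    (hx : x ∈ Q) (hf : ∀ k ∈ Q, ⁅x, k⁆ ∈ fxS φ S) : x ∈ 𝒞(Q) := fun k hk => by
  obtain ⟨v, hv, hv0⟩ := (Submodule.ne_bot_iff S).1 h0
  exact (commutatorElement_eq_one_iff_mul_comm.1 (eq_one_of_scal h.inj
    (h.der (commutator_mem_commutator hx hk)) hv0 (hf k hk v hv))).symm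

end SC

end Cfsg.Agent.TUR
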