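import Cfsg.Agent.TUR.H2
import Mathlib.GroupTheory.CosetCover

/-! The scalar setting without a hypothesis on the centre. -/

set_option autoImplicit false
set_option linter.unusedSectionVars false

namespace Cfsg.Agent.TUR

open Subgroup H49 H44 FLAV Module
open H79 (cjAut fixS kerS rad Irr coe_cjAut rep_mul_apply)
open scoped commutatorElement Pointwise

universe u v

variable {K : Type*} [Field K] {X : Type u} [Group X] [Finite X] {U : Type v} [AddCommGroup U]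
  [Module K U] {φ : X →* End K U} {Ω : Set (Dual K U)} {σ g x : X} {q r : ℕ}
  {E L M P Q Z : Subgroup X} {u : U}

theorem cover {ι : Type*} (s : Finset ι) (Y : ι → Subgroup X) (h2 : 1 < s.card)
    (hc : ∀ y ∈ Q, ∃ i ∈ s, y ∈ Y i) (hi : ∀ i ∈ s, s.card ≤ (Y i).relIndex Q) : False := by
  classical
  have h : ⋃ i ∈ s, (1 : Q) • ((Y i).subgroupOf Q : Set Q) = Set.univ :=
    Set.eq_univ_of_forall fun y => by simpa [mem_subgroupOf] using hc y y.2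
  have h0 : (0 : ℚ) < s.card := by exact_mod_cast h2.trans' one_pos
  have h3 : ∑ i ∈ s, (((Y i).subgroupOf Q).index : ℚ)⁻¹ ≤ 1 := by
    refine (Finset.sum_le_card_nsmul s _ (s.card : ℚ)⁻¹ fun i h => inv_anti₀ h0 ?_).trans ?_
    · exact_mod_cast hi i h
    · rw [nsmul_eq_mul, mul_inv_cancel₀ h0.ne']
  obtain ⟨i, hi, j, hj, hij⟩ := Finset.one_lt_card.1 h2
  have := pairwiseDisjoint_leftCoset_cover_of_sum_inv_index_eq_one h
    (h3.antisymm (one_le_sum_inv_index_of_leftCoset_cover h))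
    (Finset.mem_coe.2 (Finset.mem_filter.2 ⟨hi, inferInstance⟩))
    (Finset.mem_coe.2 (Finset.mem_filter.2 ⟨hj, inferInstance⟩)) hij
  exact Set.disjoint_left.1 this (show (1 : Q) ∈ _ by simp) (by simp)

theorem cm_mem (hx : x ∈ 𝒩(Q)) (hk : g ∈ Q) : ⁅g, x⁆ ∈ Q :=
  kk_le hx (comm_mem_kk hk)

theorem apply_comm (y a : X) (u : U) : φ y⁻¹ (φ a (φ y u)) = φ ⁅y⁻¹, a⁆ (φ a u) := by
  simp only [← rep_mul_apply, commutatorElement_def, inv_inv, inv_mul_cancel_right, mul_assoc,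
    inv_mul_cancel, mul_one]

theorem index_ge (hc : Cop r Q σ) (hi : σ ∈ 𝒩(Q)) (hL : σ ∈ 𝒩(L)) (hLQ : L ≤ Q)
    (hC : Q ⊓ 𝒞[σ] ≤ L) (h : ¬ Q ≤ L) : r + 1 ≤ L.relIndex Q := by
  have h1 := H79.pow_dvd_relIndex_sub (n := 0) hc.pr hi hL hLQ (by simpa using hc.pow)
    (by simpa using hC) ((Nat.Prime.coprime_iff_not_dvd hc.pr).2 (hc.mono hLQ).cop).symm
  have h2 : L.relIndex Q ≠ 1 := fun e => h (relIndex_eq_one.1 e)
  have h3 : L.relIndex Q ≠ 0 := index_ne_zero_of_finite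
  have := Nat.le_of_dvd (by omega) h1
  rw [zero_add, pow_one] at this
  omega

theorem mem_fixS_of {l : Z →* K} (hc : Cop r Z σ) (hab : Z ≤ 𝒞(Z)) (hσ : σ ∈ fixS l)
    (hg : g ∈ 𝒩(Z)) (hgc : g ∈ 𝒞[σ]) (h : ∀ z ∈ Z ⊓ 𝒞[σ], ⁅z, g⁆ ∈ kerS l) : g ∈ fixS l := by
  have hk : kerS l ≤ Z := H79.kerS_le
  refine fixS_of_kk hg ?_
  have hK := kk_le_kerS hσ
  have : ∀ z ∈ Z, ⁅z, g⁆ ∈ kerS l := fun z hz => by
    obtain ⟨a, ha, b, hb, rfl⟩ := hc.dec le_rfl hσ.1 hz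
    have h1 : ⁅a * b, g⁆ = a * ⁅b, g⁆ * (g * a⁻¹ * g⁻¹) := by group
    rw [h1]
    exact mul_mem (mul_mem (hK ha) (h b hb)) (hK (cj_mem (mem_norm_kk hgc hg) (inv_mem ha)))
  refine kk_le_of (inv_of_forall fun z hz => ?_) this
  simpa [commutatorElement_def, mul_assoc] using mul_mem hz (this _ (inv_mem (hk hz)))

theorem comm_le_fxS {S : Submodule K U} (hS : ∀ g ∈ Q, ∀ v ∈ S, φ g v ∈ S) (hx : x ∈ fxS φ S)
    {k : X} (hk : k ∈ Q) : ⁅k, x⁆ ∈ fxS φ S :=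
  mul_mem (conj_mem_of_norm (norm_fxS hS) hk hx) (inv_mem hx)

variable [IsAlgClosed K] [FiniteDimensional K U]

theorem eig_of_irr (hab : Z ≤ 𝒞(Z)) {W : Submodule K U} {hW : H79.Inv (φ.comp Z.subtype) W}
    (h0 : W ≠ ⊥) (hi : Irr hW.res) : ∃ l : Z →* K, eig φ l ≠ ⊥ ∧ ∀ z, hW.res z = l z • 1 := by
  haveI : Nontrivial W := Submodule.nontrivial_iff_ne_bot.2 h0
  obtain ⟨l, hl⟩ := hi.exists_centralChar
  let i : Z →* center Z := (MonoidHom.id Z).codRestrict _ fun z =>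
    mem_center_iff.2 fun k => Subtype.ext (hab z.2 k k.2)
  exact ⟨l.comp i, fun e => h0 (le_bot_iff.1 (e ▸ fun v hv z =>
    congrArg Subtype.val (LinearMap.congr_fun (hl (i z)) ⟨v, hv⟩))), fun z => hl (i z)⟩

theorem exists_eig [Nontrivial U] (hab : Z ≤ 𝒞(Z)) : ∃ l : Z →* K, eig φ l ≠ ⊥ := by
  obtain ⟨W, hW, -, h0, hi⟩ := (H79.inv_top (φ.comp Z.subtype)).exists_irr top_ne_bot
  exact (eig_of_irr hab h0 hi).imp fun l h => h.1

theorem exists_eig_ne (hab : Z ≤ 𝒞(Z)) (hK : (Nat.card Z : K) ≠ 0) {z : Z} (h : φ z ≠ 1) :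
    ∃ l : Z →* K, eig φ l ≠ ⊥ ∧ l z ≠ 1 := by
  haveI := Fintype.ofFinite Z
  obtain ⟨W, hW, h0, hi, hz⟩ := H79.exists_irr_ne (φ.comp Z.subtype)
    (Nat.card_eq_fintype_card (α := Z) ▸ hK) (g := z) (k := 1) (by rwa [map_one])
  exact (eig_of_irr hab h0 hi).imp fun l h => ⟨h.1, fun e => hz (by rw [h.2, e, one_smul, map_one])⟩

theorem Res.scal_le {H : Subgroup X} {S : Submodule K U} {Y : Type u} [Group Y] {f : H →* Y}
    {ψ : Y →* End K S} (R : Res φ f ψ) (h : M ≤ scal φ) : morphim f M ≤ scal ψ := by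
  rintro _ ⟨x, hx, rfl⟩
  obtain ⟨c, hc⟩ := h hx
  exact R.scal_mem (c := c) fun v _ => LinearMap.congr_fun hc v

variable [Nontrivial U]

namespace SC
variable (h : SC φ q r Q σ)
include h

theorem res {H : Subgroup X} {S : Submodule K U} {Y : Type u} [Group Y] [Finite Y] {f : H →* Y}
    {ψ : Y →* End K S} (R : Res φ f ψ) (hQ : Q ≤ H) (hσ : σ ∈ H) :
    SC ψ q r (morphim f Q) (f ⟨σ, hσ⟩) :=
  ⟨R.inj, h.pq, h.qK, im_pi f h.pi, im_cop f hQ h.cop, h.rK, im_norm1 f h.inv,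
    im_comm f hQ hQ ▸ R.scal_le h.der, im_inf_cent f hQ (s := ⟨σ, hσ⟩) h.inv h.cop ▸ R.scal_le h.cen⟩

/-- Passing to an eigenspace of the centre. -/
theorem comm_le (hx : x ∈ 𝒩(Q) ⊓ 𝒞[σ]) (ho : ¬ r ∣ orderOf x) (hf : ∀ u, φ σ u = u → φ x u = u)
    (H : ∀ (Y : Type u) [Group Y] [Finite Y] (S : Submodule K U) [Nontrivial S]
      (f : ↥(Q ⊔ 𝒩(Q) ⊓ 𝒞[σ]) →* Y) (ψ : Y →* End K S), Res φ f ψ →
      morphim f Q ⊓ 𝒞(morphim f Q) ≤ scal ψ → f ⟨x, mem_sup_right hx⟩ ∈ 𝒞(morphim f Q)) :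
    ∀ k ∈ Q, ⁅k, x⁆ ∈ 𝒞(Q) := fun k hk => by
  have hab : Q ⊓ 𝒞(Q) ≤ 𝒞(Q ⊓ 𝒞(Q)) := inf_le_right.trans (cent_anti inf_le_left)
  obtain ⟨l, hl⟩ := exists_eig (φ := φ) hab
  have hQ : Q ≤ fixS l := fun k hk => mem_fixS_of_cent (cent_symm inf_le_right hk)
  have hS : ∀ g ∈ Q, ∀ v ∈ eig φ l, φ g v ∈ eig φ l := fun g hg v => eig_fixS (hQ hg)
  have nZ : ∀ g ∈ 𝒩(Q), g ∈ 𝒩(Q ⊓ 𝒞(Q)) := fun g hg => inv_inf hg (inv_cent hg)
  have key : ∀ y ∈ Q, y ∈ fxS φ (eig φ l) → y ∈ 𝒞(Q) := fun y hy e => h.cent_of_fxS hS hl hy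
    fun k hk => commutatorElement_inv k y ▸ inv_mem (comm_le_fxS hS e hk)
  refine key _ (cm_mem hx.1 hk) ?_
  by_cases hσ : σ ∈ fixS l
  swap
  · exact comm_le_fxS hS (fun v hv => free1 hv h.cop.pr h.cop.pow (nZ _ h.inv) hσ (nZ _ hx.1) hx.2
      ho (hf _ (nm_fix h.cop.pow v))) hk
  have hH : Q ⊔ 𝒩(Q) ⊓ 𝒞[σ] ≤ fixS l := sup_le hQ fun g hg =>
    mem_fixS_of (h.cop.mono inf_le_left) hab hσ (nZ g hg.1) hg.2 fun z hz => by
      rw [commutatorElement_eq_one_iff_mul_comm.2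
        (mem_center_iff.1 (scal_le_center h.inj (h.cen ⟨hz.1.1, hz.2⟩)) g).symm]
      exact one_mem _
  obtain ⟨Y, _, _, f, ψ, R⟩ := exists_res (φ := φ) (eig φ l) fun g hg v => eig_fixS (hH hg)
  haveI : Nontrivial (eig φ l) := Submodule.nontrivial_iff_ne_bot.2 hl
  have := H Y _ f ψ R (by
    rintro _ ⟨⟨y, hy, rfl⟩, e⟩
    suffices h1 : (y : X) ∈ 𝒞(Q) from R.scal_mem (c := l ⟨y, hy, h1⟩) fun v hv => hv ⟨y, hy, h1⟩
    refine h.cent_of_fxS hS hl hy fun k hk => ?_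
    refine (R.eq_one (x := ⁅y, (⟨k, mem_sup_left hk⟩ : ↥(Q ⊔ 𝒩(Q) ⊓ 𝒞[σ]))⁆)).1 ?_
    rw [map_commutatorElement, commutatorElement_eq_one_iff_mul_comm]
    exact (e _ (im_mem f (x := ⟨k, _⟩) hk)).symm)
  refine (R.eq_one (x := ⁅(⟨k, mem_sup_left hk⟩ : ↥(Q ⊔ 𝒩(Q) ⊓ 𝒞[σ])),
    (⟨x, mem_sup_right hx⟩ : ↥(Q ⊔ 𝒩(Q) ⊓ 𝒞[σ]))⁆)).1 ?_
  rw [map_commutatorElement, commutatorElement_eq_one_iff_mul_comm]
  exact this _ (im_mem f (x := ⟨k, _⟩) hk)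

theorem nil_cent' (hM : M ≤ 𝒩(Q)) (hc : M ≤ 𝒞[σ]) (hs : Group.IsSolvable M)
    (hr : ¬ r ∣ Nat.card M) (hf : ∀ g ∈ nilRes M, ∀ u, φ σ u = u → φ g u = u) (hx : x ∈ nilRes M)
    (hq : IsPiElt {q}ᶜ x) : ∀ k ∈ Q, ⁅k, x⁆ ∈ 𝒞(Q) := by
  have hx' := nilRes_le M hx
  refine h.comm_le ⟨hM hx', hc hx'⟩ (fun e => hr (e.trans (orderOf_dvd_natCard M hx'))) (hf x hx)
    fun Y _ _ S _ f ψ R hZ => ?_
  have hH : M ≤ Q ⊔ 𝒩(Q) ⊓ 𝒞[σ] := le_sup_of_le_right (le_inf hM hc)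
  have hl : morphim f (nilRes M) = nilRes (morphim f M) := im_lns f hH 1
  refine (h.res R le_sup_left (mem_sup_right ⟨h.inv, mem_cent1.2 rfl⟩)).nil_cent hZ (im_norm f hM)
    ?_ (im_solv f hs) (fun e => hr (e.trans (im_card_dvd f hH))) ?_ (hl.le (im_mem f hx))
    (piElt_map f hq)
  · rintro _ ⟨y, hy, rfl⟩
    exact im_cent1 f (hc hy)
  · rw [← hl]
    rintro _ ⟨y, hy, rfl⟩ u hu
    exact R.fix.2 (hf y hy _ (R.fix.1 hu))

theorem cent_of_nofix' (h0 : ∀ u, φ σ u = u → u = 0) (hg : g ∈ 𝒩(Q)) (hc : g ∈ 𝒞[σ])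
    (hq : IsPiElt {q}ᶜ g) (ho : ¬ r ∣ orderOf g) : ∀ k ∈ Q, ⁅k, g⁆ ∈ 𝒞(Q) :=
  h.comm_le ⟨hg, hc⟩ ho (fun u hu => by simp [h0 u hu]) fun Y _ _ S _ f ψ R hZ =>
    (h.res R le_sup_left (mem_sup_right ⟨h.inv, mem_cent1.2 rfl⟩)).cent_of_nofix hZ
      (fun u hu => Subtype.ext (h0 _ (R.fix.1 hu))) (im_norm1 f hg) (im_cent1 f hc) (piElt_map f hq)
      fun e => ho (e.trans (orderOf_coe (⟨g, _⟩ : ↥(Q ⊔ 𝒩(Q) ⊓ 𝒞[σ])) ▸ orderOf_map_dvd f _))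

/-- The computation with a bad vector. -/
theorem exists_form (hΩ : Om φ Ω) (hu : u ∈ bad φ Ω σ) (h0 : u ≠ 0) :
    ∃ (ν : Dual K U) (Y : Subgroup X), ν u ≠ 0 ∧ Y ≤ Q ∧ Y ≤ 𝒞(Y) ∧ σ ∈ 𝒩(Y) ∧ Q ⊓ 𝒞[σ] ≤ Y ∧
      (∀ k ∈ Q, k ∉ Y → ∀ w ∈ bad φ Ω σ, ν (φ k w) = 0) ∧
      ∀ y ∈ Q, y ∉ Y → ν (φ y⁻¹ (nm φ σ r (φ y u))) = ν u := by
  obtain ⟨ν, hν, h1⟩ : ∃ ν ∈ Ω, ν u ≠ 0 := by
    by_contra e
    push Not at e
    exact h0 (hΩ.sep u e)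
  have hσ : σ ∈ stb φ ν := by_contra fun e => h1 (hu.2 ν hν e)
  have hC : Q ⊓ 𝒞[σ] ≤ center X := h.cen.trans (scal_le_center h.inj)
  set Y := (stb φ ν ⊓ Q) ⊔ (Q ⊓ 𝒞[σ])
  have hYQ : Y ≤ Q := sup_le inf_le_right inf_le_left
  have iY : σ ∈ 𝒩(Y) := inv_sup (inv_inf (le_normalizer hσ) h.inv) (inv_of_le_cent inf_le_right)
  have hb : ∀ k ∈ Q, k ∉ Y → ∀ w ∈ bad φ Ω σ, ν (φ k w) = 0 := fun k hk e w hw =>
    hw.2 _ (hΩ.inv k ν hν) fun e' => e (mem_of_stb h.cop h.inv hσ hk e')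
  refine ⟨ν, Y, h1, hYQ, sup_le ?_ (hC.trans (center_le_cent _)), iY, le_sup_right, hb,
    fun y hy e => ?_⟩
  · rw [cent_sup]
    refine le_inf (commutator_eq_bot_iff.1 (le_bot_iff.1 fun z hz => ?_))
      (cent_symm (hC.trans (center_le_cent _)))
    obtain ⟨c, hc⟩ := h.der (commutator_mono inf_le_right inf_le_right hz)
    have := LinearMap.congr_fun (der_le hz).1 u
    refine eq_one_of_scal h.inj ⟨c, hc⟩ h0 ?_
    rw [LinearMap.comp_apply, hc] at this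
    rw [hc, show c = 1 from mul_right_cancel₀ h1 (by simpa using this), one_smul, End.one_apply]
  rw [nm_eq_sum, map_sum, map_sum, Finset.sum_eq_single_of_mem 0 (Finset.mem_range.2 h.cop.pr.pos)
    fun i hi h2 => ?_]
  · simp [H79.rep_inv_apply]
  have h3 : ¬ r ∣ i := fun e => h2 (Nat.eq_zero_of_dvd_of_lt e (Finset.mem_range.1 hi))
  have h4 : φ (σ ^ i) u = u := map_pow φ σ i ▸ H79.pow_apply_eq_self hu.1 i
  rw [apply_comm, h4]
  refine hb _ (cm_mem (pow_mem h.inv i) (inv_mem hy)) (fun e' => e ?_) u hu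
  obtain ⟨t, ht⟩ := H79.exists_pow_eq_self h.cop.pr h.cop.pow h3
  obtain ⟨n, hn, e2⟩ := h.cop.lift hYQ h.inv iY hy (by
    simpa [commutatorElement_def] using
      comm_zpowers_mem (pow_mem iY i) e' (y := σ) ⟨t, (zpow_natCast _ t).trans ht⟩)
  exact (Y.mul_mem_cancel_right hn.1).1 (mem_sup_right ⟨mul_mem hy hn.2, e2⟩)

theorem ab_of_bad (hΩ : Om φ Ω) (hb : ∀ u, φ σ u = u → u ∈ bad φ Ω σ) (hu : φ σ u = u)
    (h0 : u ≠ 0) : Q ≤ 𝒞(Q) := by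
  obtain ⟨ν, Y, h1, h2, h3, -, -, h4, h5⟩ := h.exists_form hΩ (hb u hu) h0
  have : Q ≤ Y := fun y hy => by_contra fun e => h1 (h5 y hy e ▸ h4 _ (inv_mem hy)
    (fun e' => e (inv_mem_iff.1 e')) _ (hb _ (nm_fix h.cop.pow _)))
  exact this.trans (h3.trans (cent_anti this))

theorem full (hΩ : Om φ Ω) (hu : u ∈ bad φ Ω σ) (h0 : u ≠ 0) (hx : x ∈ fx φ Ω σ) (hn : x ∈ 𝒩(Q))
    (hq : IsPiElt {q}ᶜ x) (ho : ¬ r ∣ orderOf x) : ∀ k ∈ Q, ⁅k, x⁆ ∈ 𝒞(Q) := by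
  obtain ⟨ν, Y, h1, h2, h3, h4, h5, h6, h7⟩ := h.exists_form hΩ hu h0
  have hC : Q ⊓ 𝒞[σ] ≤ center X := h.cen.trans (scal_le_center h.inj)
  have nY : Q ≤ 𝒩(Y) := le_norm_iff.2 fun a ha y hy => by
    have := commutator_mem_commutator ha (h2 hy)
    simpa [commutatorElement_def] using
      mul_mem (h5 ⟨der_le this, center_le_cent1 σ (h.der' this)⟩) hy
  let T : X → Subgroup X := fun a =>
    { carrier := {y | y ∈ Q ∧ ⁅y⁻¹, a⁆ ∈ Y}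
      one_mem' := ⟨one_mem _, by simp⟩
      mul_mem' := fun {y z} hy hz => ⟨mul_mem hy.1 hz.1, by
        simpa [commutatorElement_def, mul_assoc] using
          mul_mem (conj_mem_of_norm nY (inv_mem hz.1) hy.2) hz.2⟩
      inv_mem' := fun {y} hy => ⟨inv_mem hy.1, by
        simpa [commutatorElement_def, mul_assoc] using conj_mem_of_norm nY hy.1 (inv_mem hy.2)⟩ }
  have hxσ : Commute x σ := mem_cent1.1 hx.1
  have ha : ∀ i : ℕ, x * σ ^ i ∈ 𝒩(Q) := fun i => mul_mem hn (pow_mem h.inv i)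
  by_cases hY : Q ≤ Y
  · exact fun k hk => (hY.trans (h3.trans (cent_anti hY))) (cm_mem hn hk)
  obtain ⟨i, hi⟩ : ∃ i : ℕ, Q ≤ T (x * σ ^ i) := by
    by_contra e
    push Not at e
    refine cover (Q := Q) (Finset.range (r + 1)) (fun i => if i = r then Y else T (x * σ ^ i))
      (by simpa using h.cop.pr.pos) (fun y hy => by_contra fun e' => h1 ?_) fun i _ => ?_
    · push Not at e'
      have hyY : y ∉ Y := by simpa using e' r (by simp)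
      have := h6 _ (inv_mem hy) (fun e => hyY (inv_mem_iff.1 e)) _
        (hx.2 _ (nm_fix (r := r) h.cop.pow (φ y u)))
      rw [map_sub, map_sub, h7 y hy hyY, sub_eq_zero, nm_eq_sum, map_sum, map_sum, map_sum] at this
      rw [← this]
      refine Finset.sum_eq_zero fun i hi => ?_
      have hi' := Finset.mem_range.1 hi
      have h8 : φ (σ ^ i) u = u := map_pow φ σ i ▸ H79.pow_apply_eq_self hu.1 i
      rw [← rep_mul_apply φ x, apply_comm, rep_mul_apply, h8]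
      exact h6 _ (cm_mem (ha i) (inv_mem hy)) (fun e => e' i (Finset.mem_range.2 (by omega))
        (by rw [if_neg hi'.ne]; exact ⟨hy, e⟩)) _ (hΩ.bad_cent hx.1 hu)
    rw [Finset.card_range]
    split_ifs
    · exact index_ge h.cop h.inv h4 h2 h5 hY
    refine index_ge h.cop h.inv (inv_of_forall fun y hy => ⟨cj_mem h.inv hy.1, ?_⟩)
      (fun y hy => hy.1) (fun y hy => ⟨hy.1, ?_⟩) (e i)
    · have := cj_mem h4 hy.2
      rw [conjugate_commutatorElement,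
        ((hxσ.symm).mul_right (Commute.self_pow σ i)).eq, mul_inv_cancel_right] at this
      simpa [mul_assoc] using this
    · rw [commutatorElement_eq_one_iff_mul_comm.2 (mem_center_iff.1 (inv_mem (hC hy)) _).symm]
      exact one_mem _
  set a := x * σ ^ i
  have har : a ^ r = x ^ r := by
    rw [(hxσ.pow_right i).mul_pow, pow_right_comm, h.cop.pow, one_pow, mul_one]
  have hk : kk a Q ≤ Y := kk_le_of (inv_of_forall fun y hy => by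
    simpa [commutatorElement_def, mul_assoc] using mul_mem hy (hi (h2 hy)).2) fun y hy => by
    simpa using (hi (inv_mem hy)).2
  have hP := coprime_isProd_comm_cent (zn (ha i)) (by
    rw [Nat.card_zpowers]
    refine Nat.Coprime.coprime_dvd_left (orderOf_dvd_of_pow_eq_one (n := r * orderOf x) (by
      rw [pow_mul, har, pow_right_comm, pow_orderOf_eq_one, one_pow])) (Nat.Coprime.mul_left
      ((Nat.Prime.coprime_iff_not_dvd h.cop.pr).2 h.cop.cop) (IsPiNat.coprime' hq h.pi)))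
    (.inl (solv_zp a))
  rw [cent_zpowers] at hP
  have : kk a Q ≤ 𝒞(Q) := by
    rw [← hP.sup_eq, cent_sup, hP.sup_eq]
    exact le_inf (hk.trans (h3.trans (cent_anti hk))) (perp h.der' a)
  obtain ⟨t, ht⟩ := exists_pow_eq_self_of_coprime (x := x) (n := r)
    ((Nat.Prime.coprime_iff_not_dvd h.cop.pr).2 ho)
  exact fun k hk => this (commutator_mem_commutator hk
    (ht ▸ har ▸ pow_mem (pow_mem (mem_zpowers a) r) t))

end SC

end Cfsg.Agent.TUR
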