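import Cfsg.Agent.TUR.S1

/-! The family of subgroups of `P` attached to the eigenspaces of its centre. -/

set_option autoImplicit false
set_option linter.unusedSectionVars false

namespace Cfsg.Agent.TUR

open Subgroup H49 H44 FLAV Module
open H79 (cjAut fixS kerS coe_cjAut rep_mul_apply)
open scoped commutatorElement

universe u v

variable {K : Type*} [Field K] {X : Type u} [Group X] [Finite X] {U : Type v} [AddCommGroup U]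
  [Module K U] {φ : X →* End K U} {Ω : Set (Dual K U)} {σ g x y : X} {q r j : ℕ}
  {A E G M N P : Subgroup X} {u : U} {l : ↥(P ⊓ 𝒞(P)) →* K}

/-- The kernel of `l`, or the radical of the form given by `l`. -/
def IsA (P : Subgroup X) (l : ↥(P ⊓ 𝒞(P)) →* K) (A : Subgroup X) : Prop :=
  ∀ y, y ∈ A ↔ y ∈ P ∧ (∀ k ∈ P, ⁅y, k⁆ ∈ kerS l) ∧ (P ≤ 𝒞(P) → y ∈ kerS l)

/-- The family. -/
def fam (φ : X →* End K U) (P : Subgroup X) : Set (Subgroup X) :=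
  {A | ∃ l : ↥(P ⊓ 𝒞(P)) →* K, eig φ l ≠ ⊥ ∧ IsA P l A}

theorem norm_kerS (l : ↥(P ⊓ 𝒞(P)) →* K) : P ≤ 𝒩(kerS l) :=
  norm_of_cent (cent_symm (H79.kerS_le.trans inf_le_right))

theorem exists_isA (l : ↥(P ⊓ 𝒞(P)) →* K) : ∃ A, IsA P l A :=
  ⟨{ carrier := {y | y ∈ P ∧ (∀ k ∈ P, ⁅y, k⁆ ∈ kerS l) ∧ (P ≤ 𝒞(P) → y ∈ kerS l)}
     one_mem' := ⟨one_mem _, fun k _ => by simp, fun _ => one_mem _⟩
     mul_mem' := fun {a b} ha hb => ⟨mul_mem ha.1 hb.1, fun k hk => by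
       simpa [commutatorElement_def, mul_assoc] using mul_mem
         (conj_mem_of_norm (norm_kerS l) ha.1 (hb.2.1 k hk)) (ha.2.1 k hk),
       fun h => mul_mem (ha.2.2 h) (hb.2.2 h)⟩
     inv_mem' := fun {a} ha => ⟨inv_mem ha.1, fun k hk => by
       simpa [commutatorElement_def, mul_assoc] using
         conj_mem_of_norm (norm_kerS l) (inv_mem ha.1) (inv_mem (ha.2.1 k hk)),
       fun h => inv_mem (ha.2.2 h)⟩ }, fun _ => Iff.rfl⟩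

theorem mem_kerS_tw {Z : Subgroup X} {l : Z →* K} (n : 𝒩(Z)) :
    y ∈ kerS (tw l n⁻¹) ↔ n * y * (n : X)⁻¹ ∈ kerS l :=
  ⟨fun h => (H79.coe_mem_kerS (g := ⟨_, cj_mem n.2 (H79.kerS_le h)⟩)).2 (by
      have := (H79.coe_mem_kerS (σ := tw l n⁻¹) (g := ⟨y, H79.kerS_le h⟩)).1 h
      simp only [tw, inv_inv] at this
      exact this),
    fun h => (H79.coe_mem_kerS (g := ⟨y, by simpa [mul_assoc] using cj_mem' n.2 (H79.kerS_le h)⟩)).2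
      (by rw [tw, inv_inv]; exact (H79.coe_mem_kerS (g := ⟨_, H79.kerS_le h⟩)).1 h)⟩

theorem nZ (hg : g ∈ 𝒩(P)) : g ∈ 𝒩(P ⊓ 𝒞(P)) := inv_inf hg (inv_cent hg)

theorem abZ (P : Subgroup X) : P ⊓ 𝒞(P) ≤ 𝒞(P ⊓ 𝒞(P)) := inf_le_right.trans (cent_anti inf_le_left)

theorem fam_conj (hA : A ∈ fam φ P) (hg : g ∈ 𝒩(P)) :
    A.comap (MulAut.conj g).toMonoidHom ∈ fam φ P := by
  obtain ⟨l, hl, hA⟩ := hA
  obtain ⟨v, hv, h0⟩ := (Submodule.ne_bot_iff _).1 hl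
  let n : 𝒩(P ⊓ 𝒞(P)) := ⟨g, nZ hg⟩
  refine ⟨tw l n⁻¹, (Submodule.ne_bot_iff _).2 ⟨_, eig_tw hv n⁻¹,
    fun e => h0 ((H79.rep_eq_zero_iff φ _).1 e)⟩, fun y => (hA (g * y * g⁻¹)).trans ?_⟩
  simp only [mem_kerS_tw, conjugate_commutatorElement]
  exact ⟨fun h => ⟨by simpa [mul_assoc] using cj_mem' hg h.1, fun k hk => h.2.1 _ (cj_mem hg hk),
    h.2.2⟩, fun h => ⟨cj_mem hg h.1, fun k hk => by
      simpa [n, mul_assoc] using h.2.1 _ (cj_mem' hg hk), h.2.2⟩⟩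

theorem le_fixS (l : ↥(P ⊓ 𝒞(P)) →* K) : P ≤ fixS l := fun _ hk =>
  mem_fixS_of_cent (cent_symm inf_le_right hk)

theorem kerS_of_fxS {Z : Subgroup X} {l : Z →* K} (hl : eig φ l ≠ ⊥) (hy : y ∈ Z)
    (h : y ∈ fxS φ (eig φ l)) : y ∈ kerS l := by
  obtain ⟨v, hv, h0⟩ := (Submodule.ne_bot_iff _).1 hl
  exact (H79.coe_mem_kerS (g := ⟨y, hy⟩)).2 (smul_left_injective K h0
    ((hv ⟨y, hy⟩).symm.trans ((h v hv).trans (one_smul K v).symm)))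

/-- The situation at one step of the tower. -/
structure Cx (φ : X →* End K U) (Ω : Set (Dual K U)) (q r j : ℕ) (G : Subgroup X) (σ : X)
    (P N E : Subgroup X) : Prop extends Sel q j G σ P N E where
  inj : Function.Injective φ
  om : Om φ Ω
  cop : Cop r G σ
  qK : (q : K) ≠ 0
  rK : (r : K) ≠ 0
  ch : ∃ p : ℕ, p.Prime ∧ CharP K p

variable [IsAlgClosed K] [FiniteDimensional K U]

namespace Cx
variable (h : Cx φ Ω q r j G σ P N E)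
include h

theorem comm_mem {a b : X} (ha : a ∈ P) (hb : b ∈ P) : ⁅a, b⁆ ∈ P ⊓ 𝒞(P) :=
  have := commutator_mem_commutator ha hb
  ⟨der_le this, h.der this⟩

theorem cardZ : (Nat.card ↥(P ⊓ 𝒞(P)) : K) ≠ 0 := by
  obtain ⟨k, hk⟩ := (h.pi.of_le (inf_le_left (b := 𝒞(P)))).exists_card_eq_pow h.pr
  rw [hk, Nat.cast_pow]
  exact pow_ne_zero _ h.qK

theorem EG : E ≤ G := h.EN.trans ((lns_le j N).trans h.lt.le)

theorem EP : E ≤ 𝒩(P) := h.EN.trans ((lns_le j N).trans h.nP)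

theorem mem_of_cent (hA : A ∈ fam φ P) (hy : y ∈ P) (hc : y ∈ 𝒞(P)) (h1 : P ≤ 𝒞(P) → y = 1) :
    y ∈ A := by
  obtain ⟨l, -, hA⟩ := hA
  exact (hA y).2 ⟨hy, fun k hk => by
    rw [commutatorElement_eq_one_iff_mul_comm.2 (hc k hk).symm]; exact one_mem _,
    fun e => h1 e ▸ one_mem _⟩

theorem der_le_fam (hA : A ∈ fam φ P) : ⁅P, P⁆ ≤ A := fun _ hy =>
  h.mem_of_cent hA (der_le hy) (h.der hy) fun e => mem_bot.1 (commutator_eq_bot_iff.2 e ▸ hy)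

theorem pow_mem_fam (hA : A ∈ fam φ P) (hy : y ∈ P) : y ^ q ∈ A :=
  h.mem_of_cent hA (pow_mem hy q) (h.pow y hy) fun e => h.ab e y hy

theorem exists_fam (hD : kk σ P ≠ ⊥) : ∃ A ∈ fam φ P, ¬ kk σ P ≤ A := by
  have key : ∀ z ∈ P ⊓ 𝒞(P), z ≠ 1 → ∃ l A, eig φ l ≠ ⊥ ∧ IsA P l A ∧ z ∉ kerS l := fun z hz h1 => by
    obtain ⟨l, h2, h3⟩ := exists_eig_ne (φ := φ) (abZ P) h.cardZ (z := ⟨z, hz⟩)
      fun e => h1 (h.inj (e.trans (map_one φ).symm))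
    obtain ⟨A, hA⟩ := exists_isA l
    exact ⟨l, A, h2, hA, fun e => h3 ((H79.coe_mem_kerS (g := ⟨z, hz⟩)).1 e)⟩
  have hle := kk_le h.iP
  by_cases hab : P ≤ 𝒞(P)
  · obtain ⟨d, hd, h1⟩ := ne_bot_iff_exists.1 hD
    obtain ⟨l, A, h2, h3, h4⟩ := key d ⟨hle hd, hab (hle hd)⟩ h1
    exact ⟨A, ⟨l, h2, h3⟩, fun e => h4 (((h3 d).1 (e hd)).2.2 hab)⟩
  obtain ⟨d, hd, k, hk, h1⟩ : ∃ d ∈ kk σ P, ∃ k ∈ P, ⁅d, k⁆ ≠ 1 := by
    by_contra e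
    push Not at e
    have h1 : kk σ P ≤ 𝒞(P) := fun d hd k hk =>
      (commutatorElement_eq_one_iff_mul_comm.1 (e d hd k hk)).symm
    have h2 : ⁅⁅P, P⁆, zpowers σ⁆ = ⊥ := H50.three_sub (commutator_eq_bot_iff.2 h1)
      (by rw [commutator_comm (zpowers σ)]; exact commutator_eq_bot_iff.2 h1)
    have h3 : kk σ P ≤ ⁅P, P⁆ := (le_inf hle ((le_inf hle h1).trans (h.nab hab))).trans
      (cent_le_der h.EP (h.piE.coprime' h.pi) h.comm)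
    exact hD (le_bot_iff.1 (h.cop.kk_kk h.le h.iP ▸ h2 ▸ kk_mono h3))
  obtain ⟨l, A, h2, h3, h4⟩ := key _ (h.comm_mem (hle hd) hk) h1
  exact ⟨A, ⟨l, h2, h3⟩, fun e => h4 (((h3 d).1 (e hd)).2.1 k hk)⟩

theorem mem_of_fxS (hl : eig φ l ≠ ⊥) (hA : IsA P l A) (hy : y ∈ P) (hf : y ∈ fxS φ (eig φ l)) :
    y ∈ A :=
  (hA y).2 ⟨hy, fun k hk => kerS_of_fxS hl (h.comm_mem hy hk) (commutatorElement_inv k y ▸
    inv_mem (comm_le_fxS (fun _ hg _ => eig_fixS (le_fixS l hg)) hf hk)),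
    fun e => kerS_of_fxS hl ⟨hy, e hy⟩ hf⟩

theorem free (hl : σ ∉ fixS l) (hg : g ∈ G) (hn : g ∈ 𝒩(P)) (hf : g ∈ fx φ Ω σ) :
    g ∈ fxS φ (eig φ l) := fun v hv =>
  free1 hv h.cop.pr h.cop.pow (nZ h.iP) hl (nZ hn) hf.1
    (fun e => h.cop.cop (e.trans (orderOf_dvd_natCard G hg))) (by
      simpa using h.om.eq_zero_of_free (h.cop.mono (inf_le_left.trans h.le)) (nZ h.iP) (abZ P)
        h.cardZ hl hv (nZ hn) hf.1 (c := 1) (by simpa using hf.2 _ (nm_fix h.cop.pow v)))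

theorem res (hl : eig φ l ≠ ⊥) (hA : IsA P l A) (hD : ¬ kk σ P ≤ A) (hσ : σ ∈ fixS l) :
    ∃ (Y : Type u) (_ : Group Y) (_ : Finite Y) (f : ↥(𝒩(P) ⊓ fixS l) →* Y)
      (ψ : Y →* End K (eig φ l)), Res φ f ψ ∧ SP ψ q r (morphim f P) (f ⟨σ, h.iP, hσ⟩) ∧
      (∀ y : ↥(𝒩(P) ⊓ fixS l), (y : X) ∈ P → f y ∈ 𝒞(morphim f P) → (y : X) ∈ A) ∧
      ∃ u, ψ (f ⟨σ, h.iP, hσ⟩) u = u ∧
        u ∉ bad ψ ((· ∘ₗ (eig φ l).subtype) '' Ω) (f ⟨σ, h.iP, hσ⟩) := by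
  obtain ⟨Y, _, _, f, ψ, R⟩ := exists_res (φ := φ) (H := 𝒩(P) ⊓ fixS l) (eig φ l)
    fun g hg v => eig_fixS hg.2
  haveI : Nontrivial (eig φ l) := Submodule.nontrivial_iff_ne_bot.2 hl
  have hP : P ≤ 𝒩(P) ⊓ fixS l := le_inf le_normalizer (le_fixS l)
  have hab : ¬ P ≤ 𝒞(P) := fun e => hD fun d hd => (hA d).2 ⟨kk_le h.iP hd, fun k hk => by
    rw [commutatorElement_eq_one_iff_mul_comm.2 (e hk d (kk_le h.iP hd))]; exact one_mem _,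
    fun _ => kk_le_kerS hσ (kk_mono (le_inf le_rfl e) hd)⟩
  have hE : E ≤ 𝒩(P) ⊓ fixS l := le_inf h.EP fun e he => mem_fixS_of_cent (cent_symm (h.nab hab) he)
  have hS : SP ψ q r (morphim f P) (f ⟨σ, h.iP, hσ⟩) :=
    ⟨R.inj, h.pr, h.qK, im_pi f h.pi, im_cop f hP (h.cop.mono h.le), h.rK, im_norm1 f h.iP, by
      rw [← im_comm f hP hP]
      rintro _ ⟨y, hy, rfl⟩
      exact R.scal_mem (c := l ⟨y, der_le hy, h.der hy⟩) fun v hv => hv ⟨y, der_le hy, h.der hy⟩⟩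
  have h1 : ∀ y : ↥(𝒩(P) ⊓ fixS l), (y : X) ∈ P → f y ∈ 𝒞(morphim f P) → (y : X) ∈ A :=
    fun y hy e => (hA y).2 ⟨hy, fun k hk => kerS_of_fxS hl (h.comm_mem hy hk) (by
      refine (R.eq_one (x := ⁅y, (⟨k, hP hk⟩ : ↥(𝒩(P) ⊓ fixS l))⁆)).1 ?_
      rw [map_commutatorElement, commutatorElement_eq_one_iff_mul_comm]
      exact (e _ (im_mem f (x := ⟨k, _⟩) hk)).symm), fun e => absurd e hab⟩
  refine ⟨Y, _, inferInstance, f, ψ, R, hS, h1, by_contra fun e => hD fun d hd => ?_⟩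
  push Not at e
  obtain ⟨p, hp, _⟩ := h.ch
  haveI := Fact.mk hp
  have := hS.nz (p := p) (R.om h.om) (G := morphim f (P ⊔ E)) (E := morphim f E)
    (im_cop f (sup_le hP hE) (h.cop.mono (sup_le h.le h.EG))) (im_norm1 f (inv_sup h.iP h.iE))
    (im_mono f le_sup_left) (im_mono f le_sup_right) (im_norm f (sup_le le_normalizer h.EP))
    (im_norm1 f h.iE) (im_pi f h.piE) (by rw [← im_comm f hP hE, h.comm]) e
  rw [← im_kk f hP] at this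
  exact h1 ⟨d, hP (kk_le h.iP hd)⟩ (kk_le h.iP hd) (this (im_mem f hd))

theorem nz (hA : A ∈ fam φ P) (hD : ¬ kk σ P ≤ A) : ∃ u, φ σ u = u ∧ u ∉ bad φ Ω σ := by
  obtain ⟨l, hl, hA⟩ := hA
  by_cases hσ : σ ∈ fixS l
  · obtain ⟨Y, _, _, f, ψ, R, -, -, u, h1, h2⟩ := h.res hl hA hD hσ
    exact ⟨u, R.fix.1 h1, fun e => h2 (R.bad_mem e)⟩
  obtain ⟨v, hv, h0⟩ := (Submodule.ne_bot_iff _).1 hl
  refine ⟨_, nm_fix (r := r) h.cop.pow v, fun e => h0 (free0 hv h.cop.pr h.cop.pow (nZ h.iP) hσ ?_)⟩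
  simpa using h.om.eq_zero_of_free (h.cop.mono (inf_le_left.trans h.le)) (nZ h.iP) (abZ P)
    h.cardZ hσ hv (one_mem _) (one_mem _) (c := 0) (by simpa using e)

theorem step (hA : A ∈ fam φ P) (hD : ¬ kk σ P ≤ A) (hy : y ∈ P) (hf : y ∈ fx φ Ω σ) : y ∈ A := by
  obtain ⟨l, hl, hA⟩ := hA
  by_cases hσ : σ ∈ fixS l
  swap
  · exact h.mem_of_fxS hl hA hy (h.free hσ (h.le hy) (le_normalizer hy) hf)
  obtain ⟨Y, _, _, f, ψ, R, hS, h0, u, h1, h2⟩ := h.res hl hA hD hσ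
  haveI : Nontrivial (eig φ l) := Submodule.nontrivial_iff_ne_bot.2 hl
  exact h0 ⟨y, le_normalizer hy, le_fixS l hy⟩ hy (hS.step (R.om h.om) h1 h2 (im_mem f hy)
    (R.fx_mem hf))

theorem mem_fixS (hl : eig φ l ≠ ⊥) (hA : IsA P l A) (hD : ¬ kk σ P ≤ A) (hσ : σ ∈ fixS l)
    (hg : g ∈ 𝒩(P)) (hc : g ∈ 𝒞[σ]) (hf : ∀ z ∈ P ⊓ 𝒞[σ], ⁅z, g⁆ ∈ fx φ Ω σ) : g ∈ fixS l := by
  obtain ⟨Y, _, _, f, ψ, R, -, -, u, h1, h2⟩ := h.res hl hA hD hσ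
  exact mem_fixS_of (h.cop.mono (inf_le_left.trans h.le)) (abZ P) hσ (nZ hg) hc fun z hz =>
    (H79.coe_mem_kerS (g := ⟨_, cm_mem (nZ hg) hz.1⟩)).2 (eq_one_of_fx (hf z ⟨hz.1.1, hz.2⟩)
      (R.fix.1 h1) (fun e => h2 (R.bad_mem e)) (u.2 ⟨_, cm_mem (nZ hg) hz.1⟩))

theorem base (hA : A ∈ fam φ P) (hM : M ≤ G ⊓ 𝒩(P) ⊓ 𝒞[σ]) (hs : Group.IsSolvable M)
    (hfix : ∀ L : Subgroup X, (∀ g ∈ 𝒩(P) ⊓ 𝒞[σ], (∀ z ∈ P ⊓ 𝒞[σ], ⁅z, g⁆ ∈ fx φ Ω σ) → g ∈ L) → M ≤ L)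
    (hf : nilRes M ≤ fx φ Ω σ) (hx : x ∈ nilRes M) (hq : IsPiElt {q}ᶜ x) :
    ∀ d ∈ kk σ P, ⁅d, x⁆ ∈ A := fun d hd => by
  have hx' := hM (nilRes_le M hx)
  by_cases hD : kk σ P ≤ A
  · exact hD (cm_mem (mem_norm_kk hx'.2 hx'.1.2) hd)
  obtain ⟨l, hl, hA⟩ := hA
  have hd' := kk_le h.iP hd
  by_cases hσ : σ ∈ fixS l
  swap
  · exact h.mem_of_fxS hl hA (cm_mem hx'.1.2 hd') (comm_le_fxS (fun _ hg _ => eig_fixS (le_fixS l hg))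
      (h.free hσ hx'.1.1 hx'.1.2 (hf hx)) hd')
  have hH : M ≤ 𝒩(P) ⊓ fixS l := le_inf (fun g hg => (hM hg).1.2)
    (hfix _ fun g hg => h.mem_fixS hl hA hD hσ hg.1 hg.2)
  obtain ⟨Y, _, _, f, ψ, R, hS, h0, -⟩ := h.res hl hA hD hσ
  haveI : Nontrivial (eig φ l) := Submodule.nontrivial_iff_ne_bot.2 hl
  have hP : P ≤ 𝒩(P) ⊓ fixS l := le_inf le_normalizer (le_fixS l)
  have e : morphim f (nilRes M) = nilRes (morphim f M) := im_lns f hH 1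
  have := hS.base (R.om h.om) (M := morphim f M) (im_norm f fun g hg => (hM hg).1.2)
    (by rintro _ ⟨y, hy, rfl⟩; exact im_cent1 f (hM hy).2) (im_solv f hs)
    (fun e => h.cop.cop (e.trans ((im_card_dvd f hH).trans (card_dvd_of_le fun g hg => (hM hg).1.1))))
    (by rw [← e]; rintro _ ⟨y, hy, rfl⟩; exact R.fx_mem (hf hy))
    (e.le (im_mem f (x := ⟨x, hH (nilRes_le M hx)⟩) hx)) (piElt_map f hq) (f ⟨d, hP hd'⟩)
    (im_kk f hP _ ▸ im_mem f hd)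
  rw [← map_commutatorElement] at this
  exact h0 _ (cm_mem hx'.1.2 hd') this

end Cx

end Cfsg.Agent.TUR
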